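import Cfsg.Agent.H355.SzOdd
import Cfsg.Agent.OddCyclic.ClaimC.SzIso
import Cfsg.Agent.H67.SzOdd

/-!
# Elements of odd order of the Suzuki groups (helper896)
-/

set_option autoImplicit false
set_option linter.unusedSectionVars false

namespace Cfsg.Agent.H896

open MulAction Cfsg.Agent.LieExceptional Cfsg.Agent.LieExceptional.SuzukiTori
  Cfsg.Agent.LieExceptional.SuzukiTori.Hyp

/-- facts about an element of odd order of a Suzuki group -/
structure OddFact {G : Type*} [Group G] (h : G) : Prop where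
  comm : ∀ a b : G, a * h = h * a → b * h = h * b → a * b = b * a
  inv : ∃ t : G, t * t = 1 ∧ t * h * t = h⁻¹
  two : ∀ t : G, t * t = 1 → t * h = h * t → t = 1
  four : ∀ S : Subgroup G, IsPGroup 2 S → (∀ x ∈ S, (x * h * x⁻¹) * h = h * (x * h * x⁻¹)) →
    Nat.card S ≤ 4
  odd : ∀ x : G, Odd (orderOf x) → (x * h * x⁻¹) * h = h * (x * h * x⁻¹) → x * h = h * x

namespace OddFact

theorem map {G G' : Type*} [Group G] [Group G'] (e : G ≃* G') {h : G} (o : OddFact h) :
    OddFact (e h) where
  comm := by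
    intro a b ha hb
    obtain ⟨a, rfl⟩ := e.surjective a
    obtain ⟨b, rfl⟩ := e.surjective b
    rw [← map_mul, ← map_mul] at ha hb ⊢
    rw [o.comm a b (e.injective ha) (e.injective hb)]
  inv := by
    obtain ⟨t, h1, h2⟩ := o.inv
    exact ⟨e t, by rw [← map_mul, h1, map_one], by rw [← map_mul, ← map_mul, h2, map_inv]⟩
  two := by
    intro t h1 h2
    obtain ⟨t, rfl⟩ := e.surjective t
    rw [← map_mul] at h1
    rw [← map_mul, ← map_mul] at h2
    have h3 : t * t = 1 := e.injective (by rw [h1, map_one])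
    rw [o.two t h3 (e.injective h2), map_one]
  four := by
    intro S hS h
    have h1 : Nat.card (S.comap e.toMonoidHom) = Nat.card S := by
      have h2 : (S.comap e.toMonoidHom).map e.toMonoidHom = S :=
        Subgroup.map_comap_eq_self_of_surjective e.surjective S
      have h3 := Nat.card_congr
        ((S.comap e.toMonoidHom).equivMapOfInjective e.toMonoidHom e.injective).toEquiv
      rw [h3, h2]
    rw [← h1]
    apply o.four
    · exact hS.comap_of_injective e.toMonoidHom e.injective
    · intro x hx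
      have := h (e x) hx
      apply e.injective
      simp only [map_mul, map_inv]
      exact this
  odd := by
    intro x hx h
    obtain ⟨x, rfl⟩ := e.surjective x
    rw [MulEquiv.orderOf_eq] at hx
    rw [← map_mul, ← map_inv, ← map_mul, ← map_mul, ← map_mul] at h
    rw [← map_mul, ← map_mul, o.odd x hx (e.injective h)]

theorem of_conj {G : Type*} [Group G] {h g : G} (o : OddFact (g * h * g⁻¹)) : OddFact h := by
  have := o.map (MulAut.conj g⁻¹)
  have e : MulAut.conj g⁻¹ (g * h * g⁻¹) = h := by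
    show g⁻¹ * (g * h * g⁻¹) * g⁻¹⁻¹ = h
    group
  rwa [e] at this

end OddFact

section Free

variable {G Ω : Type*} [Group G] [Finite G] [MulAction G Ω] [Finite Ω] {q : ℕ}

theorem oddFact_free (H : Hyp G Ω q) {h : G} (hh : h ∈ free G Ω) : OddFact h := by
  have hmem : ∀ x : G, x * h = h * x ↔ x ∈ Subgroup.centralizer ({h} : Set G) := fun x => by
    rw [Subgroup.mem_centralizer_singleton_iff]
  have hh1 : h ≠ 1 := by
    rintro rfl
    exact H.one_notMem_free hh
  have htwo : ∀ t : G, t * t = 1 → t * h = h * t → t = 1 := by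
    intro t ht hth
    by_contra ht1
    have h1 := H.odd_of_free (H.free_of_mem hh ((hmem t).1 hth) ht1)
    have h2 : orderOf t ∣ 2 := orderOf_dvd_of_pow_eq_one (by rw [pow_two, ht])
    have h3 : orderOf t = 1 := by
      rcases (Nat.dvd_prime Nat.prime_two).1 h2 with h3 | h3
      · exact h3
      · rw [h3] at h1
        exact absurd h1 (by decide)
    exact ht1 (orderOf_eq_one_iff.1 h3)
  set C := Subgroup.centralizer ({h} : Set G) with hC
  set N := Subgroup.normalizer (C : Set G) with hN
  have h4 := Cfsg.Agent.H355.SzOdd.card_normalizer_eq_four H hh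
  rw [← hC, ← hN] at h4
  have hCN : C ≤ N := Subgroup.le_normalizer
  have hmemN : ∀ x : G, (x * h * x⁻¹) * h = h * (x * h * x⁻¹) → x ∈ N := by
    intro x hx
    have hy : x * h * x⁻¹ ∈ C := (hmem _).1 hx
    have hy1 : x * h * x⁻¹ ≠ 1 := by
      intro h1
      apply hh1
      have : h = x⁻¹ * (x * h * x⁻¹) * x := by group
      rw [this, h1]; group
    have h5 := H.centralizer_eq hh hy hy1
    rw [hN, Subgroup.mem_normalizer_iff]
    intro y
    rw [← hC] at h5
    rw [← hmem y, ← h5, Subgroup.mem_centralizer_singleton_iff]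
    constructor
    · intro h6
      have e1 : x * y * x⁻¹ * (x * h * x⁻¹) = x * (y * h) * x⁻¹ := by group
      have e2 : x * h * x⁻¹ * (x * y * x⁻¹) = x * (h * y) * x⁻¹ := by group
      rw [e1, e2, h6]
    · intro h6
      have e1 : y * h = x⁻¹ * (x * y * x⁻¹ * (x * h * x⁻¹)) * x := by group
      have e2 : h * y = x⁻¹ * (x * h * x⁻¹ * (x * y * x⁻¹)) * x := by group
      rw [e1, e2, h6]
  have hodd : ∀ c ∈ C, c ≠ 1 → Odd (orderOf c) := fun c hc hc1 => H.odd_of_free (H.free_of_mem hh hc hc1)
  refine ⟨?_, ?_, htwo, ?_, ?_⟩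
  · intro a b ha hb
    exact H.comm_of_free hh a ((hmem a).1 ha) b ((hmem b).1 hb)
  · -- the inverting involution
    have : Fact (Nat.Prime 2) := ⟨Nat.prime_two⟩
    obtain ⟨⟨t, htN⟩, ht⟩ := exists_prime_orderOf_dvd_card' (G := N) 2 (by
      rw [h4]; exact ⟨2 * Nat.card C, by ring⟩)
    rw [← Subgroup.orderOf_coe] at ht
    have ht : orderOf t = 2 := ht
    have htt : t * t = 1 := by rw [← pow_two, ← ht, pow_orderOf_eq_one]
    have hti : t⁻¹ = t := inv_eq_of_mul_eq_one_right htt
    refine ⟨t, htt, ?_⟩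
    have hhC : h ∈ C := (hmem h).1 rfl
    have hthC : t * h * t ∈ C := by
      have := (Subgroup.mem_normalizer_iff.1 htN h).1 hhC
      rwa [hti] at this
    set c := h * (t * h * t) with hc
    have hcC : c ∈ C := C.mul_mem hhC hthC
    have hct : t * c = c * t := by
      have e1 : t * c = (t * h * t) * h * t := by
        rw [hc]
        calc t * (h * (t * h * t)) = (t * h * t) * h * t := by group
          _ = _ := rfl
      rw [e1, hc, H.comm_of_free hh _ hthC _ hhC]
    by_contra hne
    have hc1 : c ≠ 1 := by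
      intro h1
      apply hne
      exact (eq_inv_of_mul_eq_one_right h1)
    have hcf := H.free_of_mem hh hcC hc1
    have htf : t ∈ free G Ω := H.free_of_mem hcf (by
      rw [Subgroup.mem_centralizer_singleton_iff]; exact hct) (by
      intro h1
      rw [h1, orderOf_one] at ht
      exact absurd ht (by decide))
    have := H.odd_of_free htf
    rw [ht] at this
    exact absurd this (by decide)
  · intro S hS hx
    have hSN : S ≤ N := fun x hxS => hmemN x (hx x hxS)
    have hdis : ∀ x ∈ S, x ∈ C → x = 1 := by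
      intro x hxS hxC
      by_contra hx1
      have h5 := hodd x hxC hx1
      obtain ⟨k, hk⟩ := hS ⟨x, hxS⟩
      have hk' : x ^ 2 ^ k = 1 := congrArg Subtype.val hk
      have h6 := orderOf_dvd_of_pow_eq_one hk'
      obtain ⟨j, -, hj⟩ := (Nat.dvd_prime_pow Nat.prime_two).1 h6
      rw [hj] at h5
      have hj0 : j = 0 := by
        by_contra hj0
        exact (Nat.not_even_iff_odd.2 h5) (Nat.even_pow.2 ⟨even_two, hj0⟩)
      rw [hj0, pow_zero] at hj
      exact hx1 (orderOf_eq_one_iff.1 hj)
    let f : S × C → N := fun p => ⟨(p.1 : G) * p.2, N.mul_mem (hSN p.1.2) (hCN p.2.2)⟩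
    have hf : Function.Injective f := by
      rintro ⟨a, b⟩ ⟨c, d⟩ hp
      have hp' : (a : G) * b = c * d := congrArg Subtype.val hp
      have h5 : (c : G)⁻¹ * a = d * (b : G)⁻¹ := by
        rw [inv_mul_eq_iff_eq_mul, ← mul_assoc, ← hp', mul_inv_cancel_right]
      have h6 := hdis _ (S.mul_mem (S.inv_mem c.2) a.2) (by
        rw [h5]; exact C.mul_mem d.2 (C.inv_mem b.2))
      have h7 : (a : G) = c := by
        rw [inv_mul_eq_one] at h6
        exact h6.symm
      rw [h7] at hp'
      have h8 : (b : G) = d := mul_left_cancel hp'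
      exact Prod.ext (Subtype.ext h7) (Subtype.ext h8)
    have h5 := Nat.card_le_card_of_injective f hf
    rw [Nat.card_prod, h4] at h5
    exact Nat.le_of_mul_le_mul_right h5 Nat.card_pos
  · intro x hxo hx
    have hxN := hmemN x hx
    have hnorm : (C.subgroupOf N).Normal := Subgroup.normal_in_normalizer
    have hidx : (C.subgroupOf N).index = 4 := by
      have h5 := (C.subgroupOf N).card_mul_index
      rw [Nat.card_congr (Subgroup.subgroupOfEquivOfLe hCN).toEquiv, h4, mul_comm] at h5
      exact Nat.eq_of_mul_eq_mul_right Nat.card_pos h5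
    have h5 := Subgroup.pow_index_mem (C.subgroupOf N) (⟨x, hxN⟩ : N)
    rw [hidx] at h5
    have h6 : x ^ 4 ∈ C := h5
    rw [hmem]
    have hcop : Nat.Coprime (orderOf x) 4 := by
      have : (4 : ℕ) = 2 ^ 2 := rfl
      rw [this]
      exact Nat.Coprime.pow_right 2 (Nat.coprime_two_right.2 hxo)
    obtain ⟨k, hk⟩ := exists_pow_eq_self_of_coprime hcop.symm
    rw [← hk]
    exact C.pow_mem h6 k

end Free

section Ovoid

open Cfsg.Agent.LieExceptional.SuzukiBasic
open scoped MatrixGroups

variable {F : Type*} [Field F] [Fintype F] {m : ℕ}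

/-- the torus of the Suzuki group -/
def tor (hF : Fintype.card F = 2 ^ (2 * m + 1)) (k : Fˣ) : Cfsg.Sz F m := ⟨H m k, H_mem hF k⟩

/-- the antidiagonal involution -/
def anti (hF : Fintype.card F = 2 ^ (2 * m + 1)) : Cfsg.Sz F m := ⟨W F, W_mem hF⟩

theorem tor_mul (hF : Fintype.card F = 2 ^ (2 * m + 1)) (k l : Fˣ) :
    tor hF k * tor hF l = tor hF (k * l) := Subtype.ext (H_mul m k l)

theorem tor_one (hF : Fintype.card F = 2 ^ (2 * m + 1)) : tor (F := F) hF 1 = 1 := Subtype.ext (H_one m)

theorem tor_inv (hF : Fintype.card F = 2 ^ (2 * m + 1)) (k : Fˣ) : (tor hF k)⁻¹ = tor hF k⁻¹ := by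
  apply inv_eq_of_mul_eq_one_right
  rw [tor_mul, mul_inv_cancel, tor_one]

theorem tor_inj (hF : Fintype.card F = 2 ^ (2 * m + 1)) {k l : Fˣ} (h : tor hF k = tor hF l) : k = l :=
  (H_eq_H_iff hF k l).1 (congrArg Subtype.val h)

theorem anti_mul (hF : Fintype.card F = 2 ^ (2 * m + 1)) : anti (F := F) hF * anti hF = 1 :=
  Subtype.ext W_mul_W

theorem anti_tor (hF : Fintype.card F = 2 ^ (2 * m + 1)) (k : Fˣ) :
    anti hF * tor hF k = tor hF k⁻¹ * anti hF := Subtype.ext (W_mul_H m k)

theorem sq_unit (hF : Fintype.card F = 2 ^ (2 * m + 1)) {k : Fˣ} (h : k * k = 1) : k = 1 := by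
  have hodd : Odd (Nat.card Fˣ) := by
    rw [Nat.card_units, Nat.card_eq_fintype_card, hF]
    exact Nat.Even.sub_odd (Nat.one_le_pow _ _ (by norm_num)) (Nat.even_pow.mpr ⟨even_two, by omega⟩)
      odd_one
  have h1 := orderOf_dvd_of_pow_eq_one (show k ^ 2 = 1 by rw [pow_two, h])
  have h2 : orderOf k ∣ Nat.card Fˣ := orderOf_dvd_natCard k
  have h3 : orderOf k ∣ 1 := by
    have hc : Nat.Coprime 2 (Nat.card Fˣ) := Nat.coprime_two_left.2 hodd
    rw [← Nat.Coprime.gcd_eq_one hc]
    exact Nat.dvd_gcd h1 h2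
  exact orderOf_eq_one_iff.1 (Nat.dvd_one.1 h3)

theorem tor_norm (hm : 1 ≤ m) (hF : Fintype.card F = 2 ^ (2 * m + 1)) {k l : Fˣ} (hl : l ≠ 1)
    {x : Cfsg.Sz F m} (hx : x * tor hF k * x⁻¹ = tor hF l) :
    (∃ j, x = tor hF j) ∨ ∃ j, x = tor hF j * anti hF := by
  have hx' : (x : SL(4, F)) * H m k = H m l * x := by
    have := congrArg Subtype.val (mul_inv_eq_iff_eq_mul.1 hx)
    exact this
  have key : ∀ p, p ∈ Cfsg.suzukiOvoid F m → H m k • p = p →
      (x : SL(4, F)) • p = Cfsg.suzukiPointInfinity F ∨ (x : SL(4, F)) • p = Cfsg.suzukiPointZero F := by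
    intro p hp h
    by_contra hcon
    push Not at hcon
    apply hl
    rw [← H_fix_iff hF l ((smul_mem_ovoid x.2).2 hp) hcon.1 hcon.2, ← mul_smul, ← hx', mul_smul, h]
  have k1 := key _ (infinity_mem_ovoid m) (H_smul_infinity k)
  have k2 := key _ (zero_mem_ovoid m) (H_smul_zero hF k)
  have hne : (x : SL(4, F)) • Cfsg.suzukiPointInfinity F ≠ (x : SL(4, F)) • Cfsg.suzukiPointZero F := by
    intro h
    exact zero_ne_infinity (MulAction.injective _ h).symm
  rcases k1 with k1 | k1
  · left
    have k3 : (x : SL(4, F)) • Cfsg.suzukiPointZero F = Cfsg.suzukiPointZero F := by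
      rcases k2 with k2 | k2
      · exact absurd (k1.trans k2.symm) hne
      · exact k2
    obtain ⟨j, hj⟩ := eq_H_of_fix_two hm hF x.2 k1 k3
    exact ⟨j, Subtype.ext hj⟩
  · right
    have k3 : (x : SL(4, F)) • Cfsg.suzukiPointZero F = Cfsg.suzukiPointInfinity F := by
      rcases k2 with k2 | k2
      · exact k2
      · exact absurd (k1.trans k2.symm) hne
    obtain ⟨j, hj⟩ := eq_H_of_fix_two hm hF (x * anti hF).2
      (by
        show ((x : SL(4, F)) * W F) • Cfsg.suzukiPointInfinity F = _
        rw [mul_smul, W_smul_infinity, k3])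
      (by
        show ((x : SL(4, F)) * W F) • Cfsg.suzukiPointZero F = _
        rw [mul_smul, W_smul_zero, k1])
    refine ⟨j, ?_⟩
    have hj' : x * anti hF = tor hF j := Subtype.ext hj
    rw [← hj', mul_assoc, anti_mul, mul_one]

theorem tor_cent (hm : 1 ≤ m) (hF : Fintype.card F = 2 ^ (2 * m + 1)) {k : Fˣ} (hk : k ≠ 1)
    {x : Cfsg.Sz F m} (hx : x * tor hF k = tor hF k * x) : ∃ j, x = tor hF j := by
  rcases tor_norm hm hF hk (mul_inv_eq_iff_eq_mul.2 hx) with h | ⟨j, hj⟩
  · exact h
  · exfalso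
    apply hk
    apply sq_unit hF
    rw [hj, mul_assoc, anti_tor, ← mul_assoc, tor_mul, ← mul_assoc, tor_mul] at hx
    have h1 := tor_inj hF (mul_right_cancel hx)
    have h2 : k⁻¹ = k := by
      rw [mul_comm k j] at h1
      exact mul_left_cancel h1
    calc k * k = k * k⁻¹ := by rw [h2]
      _ = 1 := mul_inv_cancel k

theorem oddFact_tor (hm : 1 ≤ m) (hF : Fintype.card F = 2 ^ (2 * m + 1)) {k : Fˣ} (hk : k ≠ 1) :
    OddFact (tor hF k) := by
  have hN : ∀ x : Cfsg.Sz F m, (x * tor hF k * x⁻¹) * tor hF k = tor hF k * (x * tor hF k * x⁻¹) →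
      (∃ j, x = tor hF j) ∨ ∃ j, x = tor hF j * anti hF := by
    intro x hx
    obtain ⟨l, hl⟩ := tor_cent hm hF hk hx
    apply tor_norm hm hF _ hl
    rintro rfl
    apply hk
    rw [tor_one] at hl
    have h1 : tor hF k = x⁻¹ * (x * tor hF k * x⁻¹) * x := by group
    rw [hl, mul_one, inv_mul_cancel, ← tor_one hF] at h1
    exact tor_inj hF h1
  refine ⟨?_, ⟨anti hF, anti_mul hF, ?_⟩, ?_, ?_, ?_⟩
  · intro a b ha hb
    obtain ⟨i, rfl⟩ := tor_cent hm hF hk ha
    obtain ⟨j, rfl⟩ := tor_cent hm hF hk hb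
    rw [tor_mul, tor_mul, mul_comm]
  · rw [anti_tor, mul_assoc, anti_mul, mul_one, tor_inv]
  · intro t ht hth
    obtain ⟨j, rfl⟩ := tor_cent hm hF hk hth
    rw [tor_mul, ← tor_one hF] at ht
    rw [sq_unit hF (tor_inj hF ht), tor_one]
  · intro S hS hx
    classical
    have hT : ∀ j, tor hF j ∈ S → tor hF j = 1 := by
      intro j hj
      obtain ⟨n, hn⟩ := hS ⟨_, hj⟩
      have hn' : tor hF j ^ 2 ^ n = 1 := congrArg Subtype.val hn
      have hp : ∀ i : ℕ, tor hF j ^ i = tor hF (j ^ i) := by
        intro i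
        induction i with
        | zero => rw [pow_zero, pow_zero, tor_one]
        | succ i ih => rw [pow_succ, pow_succ, ih, tor_mul]
      rw [hp, ← tor_one hF] at hn'
      have h1 := tor_inj hF hn'
      have h2 : ∀ n : ℕ, ∀ j : Fˣ, j ^ 2 ^ n = 1 → j = 1 := by
        intro n
        induction n with
        | zero => intro j hj; simpa using hj
        | succ n ih =>
          intro j hj
          apply sq_unit hF
          apply ih
          rw [← pow_two, ← pow_mul, ← pow_succ']
          exact hj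
      rw [h2 n j h1, tor_one]
    let f : S → Bool := fun x => decide (x = 1)
    have hf : Function.Injective f := by
      intro x y hxy
      have hxy' : decide (x = 1) = decide (y = 1) := hxy
      rw [decide_eq_decide] at hxy'
      by_cases h1 : x = 1
      · rw [h1, hxy'.1 h1]
      · have h2 : y ≠ 1 := fun h => h1 (hxy'.2 h)
        have h3 : ∀ z : S, z ≠ 1 → ∃ j, (z : Cfsg.Sz F m) = tor hF j * anti hF := by
          intro z hz
          rcases hN z (hx z z.2) with ⟨j, hj⟩ | h
          · exfalso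
            apply hz
            apply Subtype.ext
            rw [hj]
            exact hT j (by rw [← hj]; exact z.2)
          · exact h
        obtain ⟨i, hi⟩ := h3 x h1
        obtain ⟨j, hj⟩ := h3 y h2
        have h4 : (x : Cfsg.Sz F m) * (y : Cfsg.Sz F m)⁻¹ = tor hF (i * j⁻¹) := by
          rw [hi, hj, ← tor_mul, ← tor_inv]; group
        have h5 := hT (i * j⁻¹) (by rw [← h4]; exact S.mul_mem x.2 (S.inv_mem y.2))
        rw [← h4] at h5
        exact Subtype.ext (mul_inv_eq_one.1 h5)
    have h1 := Nat.card_le_card_of_injective f hf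
    have h2 : Nat.card Bool = 2 := by simp
    omega
  · intro x hxo hx
    rcases hN x hx with ⟨j, rfl⟩ | ⟨j, rfl⟩
    · rw [tor_mul, tor_mul, mul_comm]
    · have h1 : (tor hF j * anti hF) ^ 2 = 1 := by
        rw [pow_two]
        have : tor hF j * anti hF * (tor hF j * anti hF) = tor hF j * (anti hF * tor hF j) * anti hF := by
          group
        rw [this, anti_tor, ← mul_assoc, tor_mul, mul_inv_cancel, tor_one, one_mul, anti_mul]
      have h2 := orderOf_dvd_of_pow_eq_one h1
      have h3 : orderOf (tor hF j * anti hF) = 1 := by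
        rcases (Nat.dvd_prime Nat.prime_two).1 h2 with h3 | h3
        · exact h3
        · rw [h3] at hxo
          exact absurd hxo (by decide)
      rw [orderOf_eq_one_iff.1 h3, one_mul, mul_one]

/-- every element of odd order of the Suzuki group (ovoid model) -/
theorem oddFact_ovoid (hm : 1 ≤ m) (hF : Fintype.card F = 2 ^ (2 * m + 1)) {h : Cfsg.Sz F m}
    (h1 : h ≠ 1) (ho : Odd (orderOf h)) : OddFact h := by
  have : Finite (Cfsg.suzukiOvoid F m) := Finite.of_equiv _ (SuzukiBasic.ovoidEquiv F m)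
  have hy := SuzukiHyp.hyp hm hF
  by_cases hf : h ∈ free (Cfsg.Sz F m) (Cfsg.suzukiOvoid F m)
  · exact oddFact_free hy hf
  · have h2 := Cfsg.Agent.H355.SzOdd.card_fixedBy_eq_two hy h1 ho hf
    rw [Nat.card_coe_set_eq, Set.ncard_eq_two] at h2
    obtain ⟨α, β, hαβ, hfix⟩ := h2
    have hα : h • α = α := by
      have : α ∈ fixedBy (Cfsg.suzukiOvoid F m) h := by rw [hfix]; exact Or.inl rfl
      exact this
    have hβ : h • β = β := by
      have : β ∈ fixedBy (Cfsg.suzukiOvoid F m) h := by rw [hfix]; exact Or.inr rfl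
      exact this
    obtain ⟨g, hg, hgα, hgβ⟩ := exists_smul_eq hF α.2 β.2 (fun h => hαβ (Subtype.ext h))
    have hα' : (h : SL(4, F)) • (α : Projectivization F (Fin 4 → F)) = α := congrArg Subtype.val hα
    have hβ' : (h : SL(4, F)) • (β : Projectivization F (Fin 4 → F)) = β := congrArg Subtype.val hβ
    have e1 : g⁻¹ • Cfsg.suzukiPointInfinity F = (α : Projectivization F (Fin 4 → F)) := by
      rw [← hgα, inv_smul_smul]
    have e2 : g⁻¹ • Cfsg.suzukiPointZero F = (β : Projectivization F (Fin 4 → F)) := by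
      rw [← hgβ, inv_smul_smul]
    set G : Cfsg.Sz F m := ⟨g, hg⟩ with hG
    obtain ⟨k, hk⟩ := eq_H_of_fix_two hm hF (G * h * G⁻¹).2
      (by
        show (g * (h : SL(4, F)) * g⁻¹) • Cfsg.suzukiPointInfinity F = _
        rw [mul_smul, mul_smul, e1, hα', hgα])
      (by
        show (g * (h : SL(4, F)) * g⁻¹) • Cfsg.suzukiPointZero F = _
        rw [mul_smul, mul_smul, e2, hβ', hgβ])
    have hk' : G * h * G⁻¹ = tor hF k := Subtype.ext hk
    apply OddFact.of_conj (g := G)
    rw [hk']
    apply oddFact_tor hm hF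
    rintro rfl
    apply h1
    rw [tor_one] at hk'
    have : h = G⁻¹ * (G * h * G⁻¹) * G := by group
    rw [this, hk']; group

/-- every element of odd order of the Suzuki group -/
theorem oddFact (hm : 1 ≤ m) (hF : Fintype.card F = 2 ^ (2 * m + 1))
    {h : ↥(Cfsg.Lie.Sz F (2 ^ (m + 1)))} (h1 : h ≠ 1) (ho : Odd (orderOf h)) : OddFact h := by
  obtain ⟨e⟩ := Cfsg.Agent.OddCyclic.ClaimC.SzIso.iso (F := F) hm hF
  have h2 := oddFact_ovoid hm hF (h := e.symm h)
    (fun h3 => h1 (by rw [← e.apply_symm_apply h, h3, map_one]))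
    (by rw [MulEquiv.orderOf_eq]; exact ho)
  have h3 := h2.map e
  rwa [e.apply_symm_apply] at h3

end Ovoid

open scoped commutatorElement in
/-- a group of odd order all of whose nontrivial elements satisfy `OddFact`, with cyclic Sylow subgroups,
is abelian -/
theorem comm_of_oddFact {G : Type*} [Group G] [Finite G] (hodd : ∀ h : G, h ≠ 1 → Odd (orderOf h) → OddFact h)
    (hcyc : ∀ (p : ℕ), p.Prime → p ≠ 2 → ∀ P : Sylow p G, IsCyclic P) {K : Subgroup G}
    (hK : Odd (Nat.card K)) : ∀ a ∈ K, ∀ b ∈ K, a * b = b * a := by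
  have hZ : IsZGroup K := by
    rw [isZGroup_iff]
    intro p hp P
    have : Fact p.Prime := ⟨hp⟩
    by_cases hp2 : p = 2
    · subst hp2
      obtain ⟨n, hn⟩ := P.isPGroup'.exists_card_eq
      have h1 : Nat.card P ∣ Nat.card K := Subgroup.card_subgroup_dvd_card _
      have h2 : n = 0 := by
        by_contra h0
        rw [hn] at h1
        exact (Nat.not_even_iff_odd.2 hK) (even_iff_two_dvd.2 ((dvd_pow_self 2 h0).trans h1))
      rw [h2, pow_zero] at hn
      have : Subsingleton P := (Nat.card_eq_one_iff_unique.1 hn).1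
      exact isCyclic_of_subsingleton
    · have h1 : IsPGroup p ((P : Subgroup K).map K.subtype) := P.isPGroup'.map _
      obtain ⟨Q, hQ⟩ := h1.exists_le_sylow
      have h2 := hcyc p hp hp2 Q
      let f : P →* Q := (Subgroup.inclusion hQ).comp
        (((P : Subgroup K).equivMapOfInjective K.subtype K.subtype_injective).toMonoidHom)
      have hf : Function.Injective f :=
        (Subgroup.inclusion_injective hQ).comp
          ((P : Subgroup K).equivMapOfInjective K.subtype K.subtype_injective).injective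
      exact isCyclic_of_injective f hf
  have hcy := IsZGroup.isCyclic_commutator (G := K)
  have hord : ∀ x : G, x ∈ K → Odd (orderOf x) := by
    intro x hx
    have h1 : orderOf (⟨x, hx⟩ : K) ∣ Nat.card K := orderOf_dvd_natCard _
    rw [← Subgroup.orderOf_coe] at h1
    exact Odd.of_dvd_nat hK h1
  intro a ha b hb
  by_cases hc : commutator K = ⊥
  · have h1 : ⁅(⟨a, ha⟩ : K), (⟨b, hb⟩ : K)⁆ ∈ commutator K :=
      Subgroup.commutator_mem_commutator (Subgroup.mem_top _) (Subgroup.mem_top _)
    rw [hc, Subgroup.mem_bot, commutatorElement_eq_one_iff_mul_comm] at h1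
    exact congrArg Subtype.val h1
  · obtain ⟨⟨c, hcK⟩, hcc, hc1⟩ := (Subgroup.bot_or_exists_ne_one (commutator K)).resolve_left hc
    have hc1' : c ≠ 1 := fun h => hc1 (Subtype.ext h)
    have o := hodd c hc1' (hord c hcK)
    have hcent : ∀ x ∈ K, x * c = c * x := by
      intro x hx
      apply o.odd x (hord x hx)
      have h2 : (⟨x, hx⟩ : K) * ⟨c, hcK⟩ * (⟨x, hx⟩ : K)⁻¹ ∈ commutator K :=
        Subgroup.Normal.conj_mem inferInstance _ hcc _
      have hcomm : ∀ y z : commutator K, y * z = z * y := by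
        intro y z
        obtain ⟨g, hg⟩ := hcy.exists_generator
        obtain ⟨i, rfl⟩ := Subgroup.mem_zpowers_iff.1 (hg y)
        obtain ⟨j, rfl⟩ := Subgroup.mem_zpowers_iff.1 (hg z)
        rw [← zpow_add, ← zpow_add, add_comm]
      have h3 := hcomm ⟨_, h2⟩ ⟨_, hcc⟩
      exact congrArg Subtype.val (congrArg Subtype.val h3)
    exact o.comm a b (hcent a ha) (hcent b hb)

end Cfsg.Agent.H896
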