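import Mathlib
import Cfsg.Prelude.Def_GeometricClasses
import Cfsg.Agent.H905.SLProper
import Cfsg.Agent.H907.Schur
import Cfsg.Agent.H940.MaxCls

/-!
# `PSL₃(q)` for S5906, S5907 (task 625, helper896): tools

`sub X` : the subgroup of `SL₃` cut out by the subgroup `X` of `GL₃`; `Free E X` : no `SL₃`-conjugate of `E` is in `X`.
-/

set_option autoImplicit false
set_option linter.unusedSectionVars false

namespace Cfsg.Agent.H896.L3

open Matrix Cfsg Cfsg.Geo
open Matrix.SpecialLinearGroup (toGL)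

variable {F : Type*} [Field F]

abbrev SL3 (F : Type*) [Field F] : Type _ := Matrix.SpecialLinearGroup (Fin 3) F

/-- the subgroup of `SL₃` cut out by a subgroup of `GL₃` -/
def sub (X : Subgroup (GL (Fin 3) F)) : Subgroup (SL3 F) := X.comap toGL

theorem mem_sub {X : Subgroup (GL (Fin 3) F)} {x : SL3 F} : x ∈ sub X ↔ toGL x ∈ X := Iff.rfl

theorem toGL_inj : Function.Injective (toGL : SL3 F → GL (Fin 3) F) := by
  intro x y h
  apply Subtype.ext
  exact congrArg (fun g : GL (Fin 3) F => (g : Matrix (Fin 3) (Fin 3) F)) h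

theorem toGL_mem (x : SL3 F) : toGL x ∈ specialLinear (Fin 3) F := by
  rw [← Cfsg.Agent.H905.range_toGL]
  exact ⟨x, rfl⟩

theorem exists_toGL {g : GL (Fin 3) F} (h : g ∈ specialLinear (Fin 3) F) : ∃ x : SL3 F, toGL x = g := by
  rw [← Cfsg.Agent.H905.range_toGL] at h
  exact h

theorem map_sub (X : Subgroup (GL (Fin 3) F)) : (sub X).map toGL = X ⊓ specialLinear (Fin 3) F := by
  ext g
  rw [Subgroup.mem_map, Subgroup.mem_inf]
  constructor
  · rintro ⟨x, hx, rfl⟩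
    exact ⟨hx, toGL_mem x⟩
  · rintro ⟨h1, h2⟩
    obtain ⟨x, rfl⟩ := exists_toGL h2
    exact ⟨x, h1, rfl⟩

theorem eq_sub {K : Subgroup (SL3 F)} {X : Subgroup (GL (Fin 3) F)}
    (h : K.map toGL = X ⊓ specialLinear (Fin 3) F) : K = sub X := by
  rw [← map_sub] at h
  exact Subgroup.map_injective toGL_inj h

theorem coatom_of_max {X : Subgroup (GL (Fin 3) F)}
    (h : IsMaximalIn (specialLinear (Fin 3) F) (X ⊓ specialLinear (Fin 3) F)) : IsCoatom (sub X) := by
  constructor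
  · intro hX
    apply h.1.ne
    rw [← map_sub, hX]
    ext g
    rw [Subgroup.mem_map]
    constructor
    · rintro ⟨x, -, rfl⟩
      exact toGL_mem x
    · intro hg
      obtain ⟨x, rfl⟩ := exists_toGL hg
      exact ⟨x, Subgroup.mem_top _, rfl⟩
  · intro K hK
    have h1 : X ⊓ specialLinear (Fin 3) F ≤ K.map toGL := by
      rw [← map_sub]
      exact Subgroup.map_mono hK.le
    have h2 : K.map toGL ≤ specialLinear (Fin 3) F := by
      rintro _ ⟨x, -, rfl⟩
      exact toGL_mem x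
    rcases h.2 _ h1 h2 with h3 | h3
    · exact absurd (eq_sub h3) hK.ne'
    · refine top_le_iff.1 fun x _ => ?_
      have h4 := toGL_mem x
      rw [← h3, Subgroup.mem_map] at h4
      obtain ⟨y, hy, hxy⟩ := h4
      rwa [← toGL_inj hxy]

theorem max_of_coatom {K : Subgroup (SL3 F)} (hK : IsCoatom K) :
    IsMaximalIn (specialLinear (Fin 3) F) (K.map toGL) := by
  have h2 : K.map toGL ≤ specialLinear (Fin 3) F := by
    rintro _ ⟨x, -, rfl⟩
    exact toGL_mem x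
  refine ⟨lt_of_le_of_ne h2 fun h => hK.1 ?_, fun M hM hM' => ?_⟩
  · refine top_le_iff.1 fun x _ => ?_
    have h4 := toGL_mem x
    rw [← h, Subgroup.mem_map] at h4
    obtain ⟨y, hy, hxy⟩ := h4
    rwa [← toGL_inj hxy]
  · have h3 : M = (sub M).map toGL := by
      rw [map_sub, inf_eq_left.2 hM']
    have h4 : K ≤ sub M := fun x hx => hM (Subgroup.mem_map_of_mem _ hx)
    rcases eq_or_lt_of_le h4 with h5 | h5
    · left
      rw [h3, ← h5]
    · right
      rw [h3, hK.2 _ h5]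
      ext g
      rw [Subgroup.mem_map]
      constructor
      · rintro ⟨x, -, rfl⟩
        exact toGL_mem x
      · intro hg
        obtain ⟨x, rfl⟩ := exists_toGL hg
        exact ⟨x, Subgroup.mem_top _, rfl⟩

/-! ### `Free` -/

/-- no conjugate of `E` is in `X` -/
def Free (E : Subgroup (SL3 F)) (X : Subgroup (GL (Fin 3) F)) : Prop :=
  ∀ g : SL3 F, ∃ x ∈ E, toGL (g * x * g⁻¹) ∉ X

theorem Free.ne {E : Subgroup (SL3 F)} {X : Subgroup (GL (Fin 3) F)} (h : Free E X) (g : SL3 F) :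
    Subgroup.map (MulAut.conj g).toMonoidHom (sub X) ≠ E := by
  intro he
  obtain ⟨x, hx, hx'⟩ := h g⁻¹
  rw [← he, Cfsg.Agent.H940.MaxCls.mem_map_conj] at hx
  apply hx'
  rw [inv_inv]
  exact hx

theorem Free.ne' {E : Subgroup (SL3 F)} {X : Subgroup (GL (Fin 3) F)} (h : Free E X) (g : SL3 F) :
    Subgroup.map (MulAut.conj g).toMonoidHom E ≠ sub X := by
  intro he
  obtain ⟨x, hx, hx'⟩ := h g
  apply hx'
  rw [← mem_sub, ← he, Cfsg.Agent.H940.MaxCls.mem_map_conj]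
  have : g⁻¹ * (g * x * g⁻¹) * g = x := by group
  rwa [this]

/-! ### subspaces -/

/-- `W` is stable under `E` -/
def Stable (E : Subgroup (SL3 F)) (W : Submodule F (Fin 3 → F)) : Prop :=
  ∀ x ∈ E, ∀ w ∈ W, (x : Matrix (Fin 3) (Fin 3) F) *ᵥ w ∈ W

theorem free_stab {E : Subgroup (SL3 F)} {W : Submodule F (Fin 3 → F)}
    (h : ∀ W' : Submodule F (Fin 3 → F), Stable E W' → Module.finrank F W' ≠ Module.finrank F W) :
    Free E (subspaceStabilizer W) := by
  intro g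
  by_contra hcon
  push Not at hcon
  let e : (Fin 3 → F) ≃ₗ[F] (Fin 3 → F) := Matrix.SpecialLinearGroup.toLin' g⁻¹
  have he : ∀ w, e w = ((g⁻¹ : SL3 F) : Matrix (Fin 3) (Fin 3) F) *ᵥ w := fun w => rfl
  refine h (W.map (e : (Fin 3 → F) →ₗ[F] (Fin 3 → F))) ?_ (LinearEquiv.finrank_map_eq e W)
  rintro x hx _ ⟨w, hw, rfl⟩
  have h1 := (Cfsg.Agent.H905.mulVec_mem_iff_of_mem_subspaceStabilizer (hcon x hx) w).1 hw
  refine ⟨_, h1, ?_⟩
  show e _ = _ *ᵥ (e w)
  rw [he, he, Matrix.mulVec_mulVec, Matrix.mulVec_mulVec]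
  congr 1
  have h2 : g⁻¹ * (g * x * g⁻¹) = x * g⁻¹ := by group
  show ((g⁻¹ * (g * x * g⁻¹) : SL3 F) : Matrix (Fin 3) (Fin 3) F) = _
  rw [h2]
  rfl

theorem mem_stab {W : Submodule F (Fin 3 → F)} {x : SL3 F}
    (h : ∀ w ∈ W, (x : Matrix (Fin 3) (Fin 3) F) *ᵥ w ∈ W) : x ∈ sub (subspaceStabilizer W) := by
  let e : (Fin 3 → F) ≃ₗ[F] (Fin 3 → F) := Matrix.SpecialLinearGroup.toLin' x
  have he : ∀ w, e w = (x : Matrix (Fin 3) (Fin 3) F) *ᵥ w := fun w => rfl
  have hmap : W.map (e : (Fin 3 → F) →ₗ[F] (Fin 3 → F)) = W := by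
    apply Submodule.eq_of_le_of_finrank_eq
    · rintro _ ⟨w, hw, rfl⟩
      exact h w hw
    · exact LinearEquiv.finrank_map_eq e W
  show ∀ v, v ∈ W ↔ (x : Matrix (Fin 3) (Fin 3) F) *ᵥ v ∈ W
  intro v
  refine ⟨h v, fun hv => ?_⟩
  rw [← hmap] at hv
  obtain ⟨w, hw, hwv⟩ := hv
  have : w = v := e.injective hwv
  rwa [← this]

/-! ### the normaliser of a cubic field -/

/-- `x ^ 3` is not one and has a fixed vector -/
def Bad (x : SL3 F) : Prop :=
  (∃ v : Fin 3 → F, v ≠ 0 ∧ ((x ^ 3 : SL3 F) : Matrix (Fin 3) (Fin 3) F) *ᵥ v = v) ∧ x ^ 3 ≠ 1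

theorem Bad.conj {x : SL3 F} (h : Bad x) (g : SL3 F) : Bad (g * x * g⁻¹) := by
  obtain ⟨⟨v, hv, hx⟩, h1⟩ := h
  have h2 : (g * x * g⁻¹) ^ 3 = g * x ^ 3 * g⁻¹ := conj_pow
  have hg : ((g⁻¹ : SL3 F) : Matrix (Fin 3) (Fin 3) F) * (g : Matrix (Fin 3) (Fin 3) F) = 1 := by
    rw [← Matrix.SpecialLinearGroup.coe_mul, inv_mul_cancel]
    rfl
  refine ⟨⟨(g : Matrix (Fin 3) (Fin 3) F) *ᵥ v, fun h => hv ?_, ?_⟩, fun h => h1 ?_⟩
  · have := congrArg (fun w => ((g⁻¹ : SL3 F) : Matrix (Fin 3) (Fin 3) F) *ᵥ w) h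
    simpa only [Matrix.mulVec_mulVec, hg, Matrix.one_mulVec, Matrix.mulVec_zero] using this
  · rw [h2, Matrix.SpecialLinearGroup.coe_mul, Matrix.SpecialLinearGroup.coe_mul, Matrix.mulVec_mulVec,
      Matrix.mul_assoc, Matrix.mul_assoc, hg, Matrix.mul_one, ← Matrix.mulVec_mulVec, hx]
  · rw [h2] at h
    have h3 : x ^ 3 = g⁻¹ * (g * x ^ 3 * g⁻¹) * g := by group
    rw [h3, h]
    group

theorem isField_of {K : Subalgebra F (Matrix (Fin 3) (Fin 3) F)} (hK : IsFieldSubalgebra 3 K) : IsField K where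
  exists_pair_ne := ⟨0, 1, fun h => zero_ne_one (congrArg Subtype.val h)⟩
  mul_comm := fun a b => Subtype.ext (hK.comm a a.2 b b.2)
  mul_inv_cancel := by
    intro a ha
    obtain ⟨b, hb, hab⟩ := hK.inv a a.2 (fun h => ha (Subtype.ext h))
    exact ⟨⟨b, hb⟩, Subtype.ext hab⟩

/-- the cube of an element of the normaliser of a cubic field centralises the field -/
theorem cube_comm [Finite F] {K : Subalgebra F (Matrix (Fin 3) (Fin 3) F)} (hK : IsFieldSubalgebra 3 K)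
    {g : GL (Fin 3) F} (hg : g ∈ subalgebraNormalizer K) {k : Matrix (Fin 3) (Fin 3) F} (hk : k ∈ K) :
    ((g ^ 3 : GL (Fin 3) F) : Matrix (Fin 3) (Fin 3) F) * k = k * ((g ^ 3 : GL (Fin 3) F) : Matrix (Fin 3) (Fin 3) F) := by
  let _ : Field K := (isField_of hK).toField
  have hgi : ((g⁻¹ : GL (Fin 3) F) : Matrix (Fin 3) (Fin 3) F) * (g : Matrix (Fin 3) (Fin 3) F) = 1 := by
    rw [← Units.val_mul, inv_mul_cancel, Units.val_one]
  have hgi' : (g : Matrix (Fin 3) (Fin 3) F) * ((g⁻¹ : GL (Fin 3) F) : Matrix (Fin 3) (Fin 3) F) = 1 := by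
    rw [← Units.val_mul, mul_inv_cancel, Units.val_one]
  let f : K →ₐ[F] K :=
    { toFun := fun a => ⟨(g : Matrix (Fin 3) (Fin 3) F) * a * ((g⁻¹ : GL (Fin 3) F) : Matrix (Fin 3) (Fin 3) F),
        (hg a).1 a.2⟩
      map_one' := by
        apply Subtype.ext
        show (g : Matrix (Fin 3) (Fin 3) F) * 1 * ((g⁻¹ : GL (Fin 3) F) : Matrix (Fin 3) (Fin 3) F) = 1
        rw [mul_one, hgi']
      map_mul' := by
        intro a b
        apply Subtype.ext
        show (g : Matrix (Fin 3) (Fin 3) F) * (a * b) * ((g⁻¹ : GL (Fin 3) F) : Matrix (Fin 3) (Fin 3) F) =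
          ((g : Matrix (Fin 3) (Fin 3) F) * a * ((g⁻¹ : GL (Fin 3) F) : Matrix (Fin 3) (Fin 3) F)) *
          ((g : Matrix (Fin 3) (Fin 3) F) * b * ((g⁻¹ : GL (Fin 3) F) : Matrix (Fin 3) (Fin 3) F))
        calc _ = (g : Matrix (Fin 3) (Fin 3) F) * a * 1 * b * ((g⁻¹ : GL (Fin 3) F) : Matrix (Fin 3) (Fin 3) F) := by
              rw [mul_one]
              simp only [mul_assoc]
          _ = _ := by
              rw [← hgi]
              simp only [mul_assoc]
      map_zero' := by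
        apply Subtype.ext
        show (g : Matrix (Fin 3) (Fin 3) F) * 0 * ((g⁻¹ : GL (Fin 3) F) : Matrix (Fin 3) (Fin 3) F) = 0
        rw [mul_zero, zero_mul]
      map_add' := by
        intro a b
        apply Subtype.ext
        show (g : Matrix (Fin 3) (Fin 3) F) * (a + b) * ((g⁻¹ : GL (Fin 3) F) : Matrix (Fin 3) (Fin 3) F) = _ + _
        rw [mul_add, add_mul]
      commutes' := by
        intro c
        apply Subtype.ext
        show (g : Matrix (Fin 3) (Fin 3) F) * algebraMap F _ c * ((g⁻¹ : GL (Fin 3) F) : Matrix (Fin 3) (Fin 3) F) =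
          algebraMap F _ c
        rw [← Algebra.commutes, mul_assoc, hgi', mul_one] }
  have hf : ∀ a : K, ((f a : K) : Matrix (Fin 3) (Fin 3) F) =
    (g : Matrix (Fin 3) (Fin 3) F) * a * ((g⁻¹ : GL (Fin 3) F) : Matrix (Fin 3) (Fin 3) F) := fun a => rfl
  have : FiniteDimensional F K := Module.finite_of_finrank_pos (by rw [hK.finrank_eq]; norm_num)
  have : Finite K := Module.finite_of_finite F
  have hfb : Function.Bijective f := by
    rw [← Finite.injective_iff_bijective]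
    exact f.toRingHom.injective
  let τ : K ≃ₐ[F] K := AlgEquiv.ofBijective f hfb
  have hcard : Nat.card (K ≃ₐ[F] K) = 3 := by
    rw [IsGalois.card_aut_eq_finrank]
    exact hK.finrank_eq
  have h3 : τ ^ Nat.card (K ≃ₐ[F] K) = 1 := pow_card_eq_one'
  rw [hcard] at h3
  have h4 : f (f (f ⟨k, hk⟩)) = ⟨k, hk⟩ := by
    have h5 := DFunLike.congr_fun h3 (⟨k, hk⟩ : K)
    exact h5
  have h5 := congrArg Subtype.val h4
  simp only [hf] at h5
  calc ((g ^ 3 : GL (Fin 3) F) : Matrix (Fin 3) (Fin 3) F) * k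
      = (g : Matrix (Fin 3) (Fin 3) F) * ((g : Matrix (Fin 3) (Fin 3) F) * ((g : Matrix (Fin 3) (Fin 3) F) * k *
        ((g⁻¹ : GL (Fin 3) F) : Matrix (Fin 3) (Fin 3) F)) * ((g⁻¹ : GL (Fin 3) F) : Matrix (Fin 3) (Fin 3) F)) *
        ((g⁻¹ : GL (Fin 3) F) : Matrix (Fin 3) (Fin 3) F) * ((g ^ 3 : GL (Fin 3) F) : Matrix (Fin 3) (Fin 3) F) := by
        have e1 : ((g ^ 3 : GL (Fin 3) F) : Matrix (Fin 3) (Fin 3) F) = (g : Matrix (Fin 3) (Fin 3) F) *
          (g : Matrix (Fin 3) (Fin 3) F) * (g : Matrix (Fin 3) (Fin 3) F) := by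
          rw [← Units.val_mul, ← Units.val_mul, pow_succ, pow_two]
        rw [e1]
        have e2 : ∀ a : Matrix (Fin 3) (Fin 3) F, ((g⁻¹ : GL (Fin 3) F) : Matrix (Fin 3) (Fin 3) F) *
          ((g : Matrix (Fin 3) (Fin 3) F) * a) = a := by
          intro a
          rw [← mul_assoc, hgi, one_mul]
        simp only [mul_assoc, e2, hgi, mul_one]
    _ = _ := by rw [h5]

theorem free_norm [Finite F] {K : Subalgebra F (Matrix (Fin 3) (Fin 3) F)} (hK : IsFieldSubalgebra 3 K)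
    {E : Subgroup (SL3 F)} {x : SL3 F} (hx : x ∈ E) (hb : Bad x) : Free E (subalgebraNormalizer K) := by
  intro g
  refine ⟨x, hx, fun hmem => ?_⟩
  obtain ⟨⟨v, hv, hfix⟩, hne⟩ := hb.conj g
  set y : SL3 F := g * x * g⁻¹
  have hy3 : ((toGL y ^ 3 : GL (Fin 3) F) : Matrix (Fin 3) (Fin 3) F) = ((y ^ 3 : SL3 F) : Matrix (Fin 3) (Fin 3) F) := by
    rw [← map_pow]
    rfl
  -- `y³ ∈ K`
  have hne' : ∃ a ∈ K, ¬ ∃ c : F, a = c • (1 : Matrix (Fin 3) (Fin 3) F) := by
    by_contra hcon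
    push Not at hcon
    have hle : K ≤ ⊥ := by
      intro a ha
      obtain ⟨c, rfl⟩ := hcon a ha
      exact Subalgebra.smul_mem _ (Subalgebra.one_mem _) c
    have h1 : Module.finrank F K = 1 := by
      rw [le_bot_iff.1 hle]
      exact Subalgebra.finrank_bot
    rw [hK.finrank_eq] at h1
    omega
  have hmemK : ((y ^ 3 : SL3 F) : Matrix (Fin 3) (Fin 3) F) ∈ K := by
    apply Cfsg.Agent.H907.mem_of_commute Nat.prime_three (Fintype.card_fin 3) K (fun a ha b hb => hK.comm a ha b hb) _ hne'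
    · intro a ha
      rw [← hy3]
      exact cube_comm hK hmem ha
    · intro a ha h0
      obtain ⟨b, hb, hab⟩ := hK.inv a ha h0
      exact IsUnit.of_mul_eq_one b hab
  -- `y³ - 1` is not invertible
  apply hne
  apply Subtype.ext
  by_contra hcon
  obtain ⟨b, -, hb⟩ := hK.inv (((y ^ 3 : SL3 F) : Matrix (Fin 3) (Fin 3) F) - 1) (K.sub_mem hmemK K.one_mem)
    (fun h => hcon (sub_eq_zero.1 h))
  have hb' := _root_.mul_eq_one_comm.1 hb
  apply hv
  rw [← Matrix.one_mulVec v, ← hb', ← Matrix.mulVec_mulVec, Matrix.sub_mulVec, hfix, Matrix.one_mulVec, sub_self,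
    Matrix.mulVec_zero]

end Cfsg.Agent.H896.L3
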