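import Cfsg.Agent.H896.L3Elt

/-!
# `PSL₃(q)` for S5906, S5907 (task 625, helper896): `Sep 5` for `q ≥ 5`
-/

set_option autoImplicit false
set_option linter.unusedSectionVars false

namespace Cfsg.Agent.H896.L3

open Matrix Cfsg Cfsg.Geo
open Matrix.SpecialLinearGroup (toGL)
open Cfsg.Agent.H940.MaxCls

variable {F : Type*} [Field F]

/-! ### existence -/

/-- the standard frame -/
def stdD (F : Type*) [Field F] (i : Fin 3) : Submodule F (Fin 3 → F) := Submodule.span F {Pi.single i 1}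

theorem stdD_dec : IsMDecomposition 1 (stdD F) where
  two_le := by norm_num
  pos := by norm_num
  finrank_eq := fun i => finrank_span_singleton (by simp)
  indep := by
    have h : LinearIndependent F (fun i : Fin 3 => (Pi.single i 1 : Fin 3 → F)) := by
      have h0 := (Pi.basisFun F (Fin 3)).linearIndependent
      have he : (⇑(Pi.basisFun F (Fin 3)) : Fin 3 → (Fin 3 → F)) = fun i => Pi.single i 1 := by
        funext i
        exact Pi.basisFun_apply F (Fin 3) i
      rwa [he] at h0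
    exact h.iSupIndep_span_singleton
  iSup_eq_top := by
    apply eq_top_of_single
    intro i
    exact Submodule.mem_iSup_of_mem i (Submodule.mem_span_singleton_self _)

theorem hE_mem_dec (a : F) (ha : a ≠ 0) : hE a ha ∈ sub (decompositionStabilizer (stdD F)) := by
  refine ⟨1, fun i => ?_⟩
  rw [stdD, Submodule.map_span, Set.image_singleton, Matrix.toLin'_apply, Equiv.Perm.one_apply, stdD]
  have h : ((toGL (hE a ha) : GL (Fin 3) F) : Matrix (Fin 3) (Fin 3) F) *ᵥ (Pi.single i 1) =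
      (![a, 1, a⁻¹] i) • (Pi.single i 1 : Fin 3 → F) := by
    ext j
    show ((hE a ha : SL3 F) : Matrix (Fin 3) (Fin 3) F) *ᵥ (Pi.single i 1) |> fun v => v j = _
    fin_cases i <;> fin_cases j <;> simp [hE]
  rw [h]
  apply Submodule.span_singleton_smul_eq
  fin_cases i <;> simp [ha]

theorem exists_cubic [Finite F] : ∃ K : Subalgebra F (Matrix (Fin 3) (Fin 3) F), IsFieldSubalgebra 3 K := by
  obtain ⟨p, hp⟩ := CharP.exists F
  have hpp : Fact p.Prime := ⟨CharP.char_is_prime F p⟩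
  let L := FiniteField.Extension F p 3
  have h3 : Module.finrank F L = 3 := FiniteField.finrank_extension F p 3
  let b : Module.Basis (Fin 3) F L := Module.finBasisOfFinrankEq F L h3
  let φ : L →ₐ[F] Matrix (Fin 3) (Fin 3) F := Algebra.leftMulMatrix b
  have hφ : Function.Injective φ := Algebra.leftMulMatrix_injective b
  refine ⟨φ.range, ?_, ?_, ?_⟩
  · rintro _ ⟨x, rfl⟩ _ ⟨y, rfl⟩
    show φ x * φ y = φ y * φ x
    rw [← map_mul, mul_comm, map_mul]
  · rintro _ ⟨x, rfl⟩ h0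
    have hx : x ≠ 0 := by
      rintro rfl
      exact h0 (map_zero φ)
    refine ⟨φ x⁻¹, ⟨_, rfl⟩, ?_⟩
    show φ x * φ x⁻¹ = 1
    rw [← map_mul, mul_inv_cancel₀ hx, map_one]
  · exact (AlgEquiv.ofInjective φ hφ).toLinearEquiv.finrank_eq.symm.trans h3

/-! ### the five classes for `q ≥ 5` -/

theorem sep_big [Fintype F] (hyp : Hyp74 F) (h5 : 5 ≤ Fintype.card F) {X : Subgroup (GL (Fin 3) F)}
    (hE : IsCoatom (sub X)) (irr : ∀ W : Submodule F (Fin 3 → F), Stable (sub X) W → W = ⊥ ∨ W = ⊤)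
    (hbad : ∃ x ∈ sub X, Bad x) (hdec : Free (sub X) (decompositionStabilizer (stdD F))) : Sep 5 (SL3 F) := by
  obtain ⟨a, ha, ha3⟩ := exists_cube_ne (F := F) h5
  obtain ⟨K, hK⟩ := exists_cubic (F := F)
  have cP1 := coatom_of_max (hyp.1 (W1 F) W1_ne_bot W1_ne_top)
  have cP2 := coatom_of_max (hyp.1 (W2 F) W2_ne_bot W2_ne_top)
  have cD := coatom_of_max (hyp.2.1 h5 _ stdD_dec)
  have cK := coatom_of_max (hyp.2.2.1 (by omega) K hK)
  have fr : ∀ {E : Subgroup (SL3 F)}, (∀ t, xE t ∈ E) → Free E (decompositionStabilizer (stdD F)) :=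
    fun h => free_dec h5 stdD_dec xE xE_add xE_unip xE_one h
  obtain ⟨x, hx, hxb⟩ := hbad
  have hb := hE_bad a ha ha3
  have key : ∀ {A B : Subgroup (SL3 F)}, IsCoatom A → IsCoatom B →
      (∀ g : SL3 F, Subgroup.map (MulAut.conj g).toMonoidHom A ≠ B) → Apart A B := by
    intro A B hA hB hne g L h1 h2
    by_contra hL
    have e1 : L = A := by
      rcases eq_or_lt_of_le h1 with h | h
      · exact h.symm
      · exact absurd (hA.2 L h) hL
    have hBc : IsCoatom (Subgroup.map (MulAut.conj g).toMonoidHom B) :=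
      (OrderIso.isCoatom_iff ((MulAut.conj g).mapSubgroup) B).2 hB
    have e2 : L = Subgroup.map (MulAut.conj g).toMonoidHom B := by
      rcases eq_or_lt_of_le (map_conj_le h2) with h | h
      · exact h.symm
      · exact absurd (hBc.2 L h) hL
    refine hne g⁻¹ ?_
    rw [← e1, e2]
    ext y
    rw [mem_map_conj, mem_map_conj]
    have h3 : g⁻¹ * (g⁻¹⁻¹ * y * g⁻¹) * g = y := by group
    rw [h3]
  refine sep_five cP1.1 cP2.1 cD.1 cK.1 hE.1 ?_ ?_ ?_ ?_ ?_ ?_ ?_ ?_ ?_ ?_
  · exact key cP1 cP2 free_W2_W1.ne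
  · exact key cP1 cD (fr xE_mem_W1).ne'
  · exact key cP1 cK (free_norm hK (hE_mem_W1 a ha) hb).ne'
  · exact key cP1 hE (free_of_irr irr W1_ne_bot W1_ne_top).ne
  · exact key cP2 cD (fr xE_mem_W2).ne'
  · exact key cP2 cK (free_norm hK (hE_mem_W2 a ha) hb).ne'
  · exact key cP2 hE (free_of_irr irr W2_ne_bot W2_ne_top).ne
  · exact key cD cK (free_norm hK (hE_mem_dec a ha) hb).ne'
  · exact key cD hE hdec.ne
  · exact key cK hE (free_norm hK hx hxb).ne

/-! ### the orthogonal group -/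

/-- `v₁² - v₀ v₂` -/
def Qf (F : Type*) [Field F] (v : Fin 3 → F) : F := v 1 ^ 2 - v 0 * v 2

theorem polar_Qf (v w : Fin 3 → F) : QuadraticMap.polar (Qf F) v w = 2 * (v 1 * w 1) - v 0 * w 2 - w 0 * v 2 := by
  simp only [QuadraticMap.polar, Qf, Pi.add_apply]
  ring

theorem Qf_nondeg (h2 : (2 : F) ≠ 0) : IsNondegenerateQuadraticForm (Qf F) where
  smul := by
    intro c v
    simp only [Qf, Pi.smul_apply, smul_eq_mul]
    ring
  polar_bilinear :=
    { add_left := by
        intro x y v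
        simp only [polar_Qf, Pi.add_apply]
        ring
      smul_left := by
        intro c x v
        simp only [polar_Qf, Pi.smul_apply, smul_eq_mul]
        ring
      add_right := by
        intro v x y
        simp only [polar_Qf, Pi.add_apply]
        ring
      smul_right := by
        intro c v x
        simp only [polar_Qf, Pi.smul_apply, smul_eq_mul]
        ring }
  nondegenerate := by
    have key : ∀ v : Fin 3 → F, v ≠ 0 → ∃ x, QuadraticMap.polar (Qf F) x v ≠ 0 := by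
      intro v hv
      by_contra hcon
      push Not at hcon
      apply hv
      have h0 := hcon (Pi.single 0 1)
      have h1 := hcon (Pi.single 1 1)
      have h3 := hcon (Pi.single 2 1)
      rw [polar_Qf] at h0 h1 h3
      simp [h2] at h0 h1 h3
      ext i
      fin_cases i
      · simpa using h3
      · simpa using h1
      · simpa using h0
    intro v hv
    refine ⟨key v hv, ?_⟩
    obtain ⟨x, hx⟩ := key v hv
    refine ⟨x, fun h => hx ?_⟩
    rw [polar_Qf] at h ⊢
    linear_combination h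

theorem uE_mem_Q (t : F) : uE t ∈ sub (quadSimilarityGroup (Qf F)) := by
  refine ⟨1, fun v => ?_⟩
  show Qf F (((uE t : SL3 F) : Matrix (Fin 3) (Fin 3) F) *ᵥ v) = _
  simp [Qf, uE, Matrix.mulVec, dotProduct, Fin.sum_univ_three]
  ring

theorem vE_mem_Q (t : F) : vE t ∈ sub (quadSimilarityGroup (Qf F)) := by
  refine ⟨1, fun v => ?_⟩
  show Qf F (((vE t : SL3 F) : Matrix (Fin 3) (Fin 3) F) *ᵥ v) = _
  simp [Qf, vE, Matrix.mulVec, dotProduct, Fin.sum_univ_three]
  ring

theorem hE_mem_Q (a : F) (ha : a ≠ 0) : hE a ha ∈ sub (quadSimilarityGroup (Qf F)) := by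
  refine ⟨1, fun v => ?_⟩
  show Qf F (((hE a ha : SL3 F) : Matrix (Fin 3) (Fin 3) F) *ᵥ v) = _
  simp [Qf, hE, Matrix.mulVec, dotProduct, Fin.sum_univ_three]
  field_simp

theorem irr_Q (h2 : (2 : F) ≠ 0) {W : Submodule F (Fin 3 → F)} (hS : Stable (sub (quadSimilarityGroup (Qf F))) W) :
    W = ⊥ ∨ W = ⊤ := by
  by_cases hW : W = ⊥
  · exact Or.inl hW
  right
  obtain ⟨w, hw, hw0⟩ := Submodule.exists_mem_ne_zero_of_ne_bot hW
  have hu : ∀ w ∈ W, (![2 * w 1 + w 2, w 2, 0] : Fin 3 → F) ∈ W := by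
    intro w hw
    have h1 := W.sub_mem (hS _ (uE_mem_Q 1) w hw) hw
    have h3 : ((uE 1 : SL3 F) : Matrix (Fin 3) (Fin 3) F) *ᵥ w - w = ![2 * w 1 + w 2, w 2, 0] := by
      ext i
      fin_cases i <;> simp [uE, dotProduct, Fin.sum_univ_three]; ring
    rwa [h3] at h1
  have hv : ∀ w ∈ W, (![0, w 0, w 0 + 2 * w 1] : Fin 3 → F) ∈ W := by
    intro w hw
    have h1 := W.sub_mem (hS _ (vE_mem_Q 1) w hw) hw
    have h3 : ((vE 1 : SL3 F) : Matrix (Fin 3) (Fin 3) F) *ᵥ w - w = ![0, w 0, w 0 + 2 * w 1] := by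
      ext i
      fin_cases i <;> simp [vE, dotProduct, Fin.sum_univ_three]
    rwa [h3] at h1
  have hsc : ∀ (i : Fin 3) (c : F), c ≠ 0 → (Pi.single i c : Fin 3 → F) ∈ W → (Pi.single i 1 : Fin 3 → F) ∈ W := by
    intro i c hc h
    have h1 := W.smul_mem c⁻¹ h
    rwa [← Pi.single_smul, smul_eq_mul, inv_mul_cancel₀ hc] at h1
  have h0 : (Pi.single 0 1 : Fin 3 → F) ∈ W := by
    by_cases hw2 : w 2 = 0
    · by_cases hw1 : w 1 = 0
      · have hw00 : w 0 ≠ 0 := by
          intro h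
          apply hw0
          ext i
          fin_cases i
          · exact h
          · exact hw1
          · exact hw2
        apply hsc 0 (w 0) hw00
        have : (Pi.single 0 (w 0) : Fin 3 → F) = w := by
          ext i
          fin_cases i <;> simp [hw1, hw2]
        rwa [this]
      · have h1 := hu w hw
        rw [hw2] at h1
        apply hsc 0 (2 * w 1) (mul_ne_zero h2 hw1)
        have : (Pi.single 0 (2 * w 1) : Fin 3 → F) = ![2 * w 1 + 0, 0, 0] := by
          ext i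
          fin_cases i <;> simp
        rwa [this]
    · have h1 := hu _ (hu w hw)
      apply hsc 0 (2 * w 2) (mul_ne_zero h2 hw2)
      have : (Pi.single 0 (2 * w 2) : Fin 3 → F) = ![2 * (![2 * w 1 + w 2, w 2, 0] : Fin 3 → F) 1 +
          (![2 * w 1 + w 2, w 2, 0] : Fin 3 → F) 2, (![2 * w 1 + w 2, w 2, 0] : Fin 3 → F) 2, 0] := by
        ext i
        fin_cases i <;> simp
      rwa [this]
  have h12 := hv _ h0
  have h3 : (Pi.single 2 1 : Fin 3 → F) ∈ W := by
    have h1 := hv _ h12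
    apply hsc 2 2 h2
    have : (Pi.single 2 2 : Fin 3 → F) = ![0, (![0, (Pi.single 0 1 : Fin 3 → F) 0, (Pi.single 0 1 : Fin 3 → F) 0 +
        2 * (Pi.single 0 1 : Fin 3 → F) 1] : Fin 3 → F) 0, (![0, (Pi.single 0 1 : Fin 3 → F) 0,
        (Pi.single 0 1 : Fin 3 → F) 0 + 2 * (Pi.single 0 1 : Fin 3 → F) 1] : Fin 3 → F) 0 + 2 *
        (![0, (Pi.single 0 1 : Fin 3 → F) 0, (Pi.single 0 1 : Fin 3 → F) 0 +
        2 * (Pi.single 0 1 : Fin 3 → F) 1] : Fin 3 → F) 1] := by
      ext i
      fin_cases i <;> simp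
    rwa [this]
  have h1 : (Pi.single 1 1 : Fin 3 → F) ∈ W := by
    have h4 := W.sub_mem h12 h3
    have : (Pi.single 1 1 : Fin 3 → F) = ![0, (Pi.single 0 1 : Fin 3 → F) 0, (Pi.single 0 1 : Fin 3 → F) 0 +
        2 * (Pi.single 0 1 : Fin 3 → F) 1] - Pi.single 2 1 := by
      ext i
      fin_cases i <;> simp
    rwa [this]
  apply eq_top_of_single
  intro i
  fin_cases i
  · exact h0
  · exact h1
  · exact h3

theorem sep_odd [Fintype F] (hyp : Hyp74 F) (h5 : 5 ≤ Fintype.card F) (h2 : (2 : F) ≠ 0) (ho : Odd (Fintype.card F)) :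
    Sep 5 (SL3 F) := by
  obtain ⟨a, ha, ha3⟩ := exists_cube_ne (F := F) h5
  exact sep_big hyp h5 (coatom_of_max (hyp.2.2.2.2.2.1 ho (Qf F) (Qf_nondeg h2))) (fun W => irr_Q h2)
    ⟨_, hE_mem_Q a ha, hE_bad a ha ha3⟩ (free_dec h5 stdD_dec uE uE_add uE_unip uE_one uE_mem_Q)

end Cfsg.Agent.H896.L3
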