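import Cfsg.Agent.H896.L3Base

/-!
# `PSL₃(q)` for S5906, S5907 (task 625, helper896): frames, explicit elements
-/

set_option autoImplicit false
set_option linter.unusedSectionVars false

namespace Cfsg.Agent.H896.L3

open Matrix Cfsg Cfsg.Geo
open Matrix.SpecialLinearGroup (toGL)

variable {F : Type*} [Field F]

/-! ### unipotent elements and frames -/

/-- `(x - 1) ^ 3 = 0` -/
def Unip (x : SL3 F) : Prop := ((x : Matrix (Fin 3) (Fin 3) F) - 1) ^ 3 = 0

theorem conj_pow_three {P P' n : Matrix (Fin 3) (Fin 3) F} (h : P' * P = 1) : (P * n * P') ^ 3 = P * n ^ 3 * P' := by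
  have h2 : ∀ a : Matrix (Fin 3) (Fin 3) F, P' * (P * a) = a := fun a => by rw [← mul_assoc, h, one_mul]
  rw [pow_succ, pow_two, pow_succ n, pow_two n]
  simp only [mul_assoc, h2]

theorem Unip.conj {x : SL3 F} (h : Unip x) (g : SL3 F) : Unip (g * x * g⁻¹) := by
  have hg : (g : Matrix (Fin 3) (Fin 3) F) * ((g⁻¹ : SL3 F) : Matrix (Fin 3) (Fin 3) F) = 1 := by
    rw [← Matrix.SpecialLinearGroup.coe_mul, mul_inv_cancel]
    rfl
  have hg' : ((g⁻¹ : SL3 F) : Matrix (Fin 3) (Fin 3) F) * (g : Matrix (Fin 3) (Fin 3) F) = 1 := by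
    rw [← Matrix.SpecialLinearGroup.coe_mul, inv_mul_cancel]
    rfl
  have h1 : ((g * x * g⁻¹ : SL3 F) : Matrix (Fin 3) (Fin 3) F) - 1 =
      (g : Matrix (Fin 3) (Fin 3) F) * ((x : Matrix (Fin 3) (Fin 3) F) - 1) *
        ((g⁻¹ : SL3 F) : Matrix (Fin 3) (Fin 3) F) := by
    rw [Matrix.SpecialLinearGroup.coe_mul, Matrix.SpecialLinearGroup.coe_mul, mul_sub, sub_mul, mul_one, hg]
  unfold Unip at h ⊢
  rw [h1, conj_pow_three hg', h, mul_zero, zero_mul]

theorem Unip.pow {x : SL3 F} (h : Unip x) (n : ℕ) : Unip (x ^ n) := by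
  unfold Unip at h ⊢
  rw [Matrix.SpecialLinearGroup.coe_pow]
  rw [← mul_geom_sum]
  have hc : Commute ((x : Matrix (Fin 3) (Fin 3) F) - 1) (∑ i ∈ Finset.range n, (x : Matrix (Fin 3) (Fin 3) F) ^ i) := by
    apply Commute.sum_right
    intro i _
    exact ((Commute.refl _).sub_left (Commute.one_left _)).pow_right i
  rw [hc.mul_pow, h, zero_mul]

/-- a unipotent element fixing the three lines of a frame is trivial -/
theorem eq_one_of_fix {D : Fin 3 → Submodule F (Fin 3 → F)} (hD : IsMDecomposition 1 D) {x : SL3 F}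
    (hx : ∀ i, ∀ w ∈ D i, (x : Matrix (Fin 3) (Fin 3) F) *ᵥ w ∈ D i) (hu : Unip x) : x = 1 := by
  have h1 : ∀ i, D i ≤ LinearMap.ker (Matrix.toLin' ((x : Matrix (Fin 3) (Fin 3) F) - 1)) := by
    intro i w hw
    rw [LinearMap.mem_ker, Matrix.toLin'_apply]
    by_cases hw0 : w = 0
    · rw [hw0, Matrix.mulVec_zero]
    obtain ⟨c, hc⟩ := (finrank_eq_one_iff_of_nonzero' (⟨w, hw⟩ : D i) (fun h => hw0 (congrArg Subtype.val h))).1
      (hD.finrank_eq i) ⟨_, hx i w hw⟩
    have hc' : (x : Matrix (Fin 3) (Fin 3) F) *ᵥ w = c • w := (congrArg Subtype.val hc).symm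
    have h2 : ((x : Matrix (Fin 3) (Fin 3) F) - 1) *ᵥ w = (c - 1) • w := by
      rw [Matrix.sub_mulVec, hc', Matrix.one_mulVec, sub_smul, one_smul]
    have h3 : (((x : Matrix (Fin 3) (Fin 3) F) - 1) ^ 3) *ᵥ w = (c - 1) ^ 3 • w := by
      rw [pow_succ, pow_two, ← Matrix.mulVec_mulVec, ← Matrix.mulVec_mulVec, h2, Matrix.mulVec_smul,
        Matrix.mulVec_smul, h2, Matrix.mulVec_smul, h2, smul_smul, smul_smul]
      congr 1
      ring
    rw [hu, Matrix.zero_mulVec] at h3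
    have h4 : (c - 1) ^ 3 = 0 := (smul_eq_zero.1 h3.symm).resolve_right hw0
    rw [h2, pow_eq_zero_iff (by norm_num) |>.1 h4, zero_smul]
  have h2 : (⊤ : Submodule F (Fin 3 → F)) ≤ LinearMap.ker (Matrix.toLin' ((x : Matrix (Fin 3) (Fin 3) F) - 1)) := by
    rw [← hD.iSup_eq_top]
    exact iSup_le h1
  apply Subtype.ext
  rw [← sub_eq_zero]
  apply (Matrix.toLin' (R := F)).injective
  rw [map_zero]
  exact LinearMap.ker_eq_top.1 (top_le_iff.1 h2)

theorem perm_pow_six (σ : Equiv.Perm (Fin 3)) : σ ^ 6 = 1 := by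
  have h : σ ^ Fintype.card (Equiv.Perm (Fin 3)) = 1 := pow_card_eq_one
  rwa [Fintype.card_perm, Fintype.card_fin] at h

/-- the sixth power of an element of the stabiliser of a frame fixes the lines -/
theorem six_fix {D : Fin 3 → Submodule F (Fin 3 → F)} {x : SL3 F} (hx : toGL x ∈ decompositionStabilizer D) (i : Fin 3) :
    ∀ w ∈ D i, ((x ^ 6 : SL3 F) : Matrix (Fin 3) (Fin 3) F) *ᵥ w ∈ D i := by
  obtain ⟨σ, hσ⟩ := hx
  have h1 : ∀ n : ℕ, ∀ w ∈ D i, ((x ^ n : SL3 F) : Matrix (Fin 3) (Fin 3) F) *ᵥ w ∈ D ((σ ^ n) i) := by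
    intro n
    induction n with
    | zero =>
      intro w hw
      rw [pow_zero, pow_zero]
      show (1 : Matrix (Fin 3) (Fin 3) F) *ᵥ w ∈ D i
      rwa [Matrix.one_mulVec]
    | succ n ih =>
      intro w hw
      rw [pow_succ', pow_succ', Matrix.SpecialLinearGroup.coe_mul, ← Matrix.mulVec_mulVec, Equiv.Perm.mul_apply,
        ← hσ]
      exact ⟨_, ih w hw, rfl⟩
  have h2 := h1 6
  rw [perm_pow_six σ] at h2
  exact h2

/-- two elements of the stabiliser of a frame with the same permutation -/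
theorem fix_of_same {D : Fin 3 → Submodule F (Fin 3 → F)} {x y z : SL3 F} {σ : Equiv.Perm (Fin 3)}
    (hx : ∀ i, (D i).map (Matrix.toLin' (x : Matrix (Fin 3) (Fin 3) F)) = D (σ i))
    (hy : ∀ i, (D i).map (Matrix.toLin' (y : Matrix (Fin 3) (Fin 3) F)) = D (σ i)) (hz : z * x = y) (i : Fin 3) :
    ∀ w ∈ D i, (z : Matrix (Fin 3) (Fin 3) F) *ᵥ w ∈ D i := by
  intro w hw
  have h1 := hx (σ.symm i)
  have h2 := hy (σ.symm i)
  rw [Equiv.apply_symm_apply] at h1 h2
  rw [← h1] at hw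
  obtain ⟨v, hv, rfl⟩ := hw
  rw [← h2]
  refine ⟨v, hv, ?_⟩
  rw [Matrix.toLin'_apply, Matrix.toLin'_apply, Matrix.mulVec_mulVec, ← hz]
  rfl

theorem free_dec_elt {D : Fin 3 → Submodule F (Fin 3 → F)} (hD : IsMDecomposition 1 D) {E : Subgroup (SL3 F)}
    {x : SL3 F} (hx : x ∈ E) (hu : Unip x) (h6 : x ^ 6 ≠ 1) : Free E (decompositionStabilizer D) := by
  intro g
  refine ⟨x, hx, fun hmem => ?_⟩
  have h1 := eq_one_of_fix hD (six_fix hmem) ((hu.conj g).pow 6)
  rw [conj_pow] at h1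
  apply h6
  have h2 : x ^ 6 = g⁻¹ * (g * x ^ 6 * g⁻¹) * g := by group
  rw [h2, h1]
  group

theorem card_gt_six [Fintype F] (h5 : 5 ≤ Fintype.card F) (h6 : (6 : F) = 0) : 6 < Fintype.card F := by
  obtain ⟨p, hp⟩ := CharP.exists F
  obtain ⟨n, hpp, hn⟩ := FiniteField.card F p
  have h1 : p ∣ 6 := (CharP.cast_eq_zero_iff F p 6).1 (by exact_mod_cast h6)
  have h2 : p ≤ 6 := Nat.le_of_dvd (by norm_num) h1
  have hn0 := n.pos
  rw [hn] at h5 ⊢
  have h3 : p = 2 ∨ p = 3 := by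
    interval_cases p <;> (revert hpp h1; decide)
  generalize (n : ℕ) = k at h5 hn0 ⊢
  by_contra hcon
  rcases h3 with rfl | rfl
  · have : k < 3 := by
      by_contra hk
      have := Nat.pow_le_pow_right (n := 2) (by norm_num) (not_lt.1 hk)
      omega
    interval_cases k <;> omega
  · have : k < 2 := by
      by_contra hk
      have := Nat.pow_le_pow_right (n := 3) (by norm_num) (not_lt.1 hk)
      omega
    interval_cases k <;> omega

theorem free_dec [Fintype F] (h5 : 5 ≤ Fintype.card F) {D : Fin 3 → Submodule F (Fin 3 → F)}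
    (hD : IsMDecomposition 1 D) {E : Subgroup (SL3 F)} (u : F → SL3 F) (hadd : ∀ s t, u (s + t) = u s * u t)
    (hu : ∀ t, Unip (u t)) (h1 : ∀ t, u t = 1 → t = 0) (hE : ∀ t, u t ∈ E) : Free E (decompositionStabilizer D) := by
  classical
  by_cases h6 : (6 : F) = 0
  · intro g
    by_contra hcon
    push Not at hcon
    have h2 : ∀ t, ∃ σ : Equiv.Perm (Fin 3), ∀ i,
        (D i).map (Matrix.toLin' ((g * u t * g⁻¹ : SL3 F) : Matrix (Fin 3) (Fin 3) F)) = D (σ i) :=
      fun t => hcon (u t) (hE t)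
    choose σ hσ using h2
    obtain ⟨s, t, hst, hσst⟩ := Fintype.exists_ne_map_eq_of_card_lt σ (by
      rw [Fintype.card_perm, Fintype.card_fin]
      exact card_gt_six h5 h6)
    have h3 := hσ t
    rw [← hσst] at h3
    have h4 : (g * u (t - s) * g⁻¹) * (g * u s * g⁻¹) = g * u t * g⁻¹ := by
      have : u t = u (t - s) * u s := by rw [← hadd, sub_add_cancel]
      rw [this]
      group
    have h5 := eq_one_of_fix hD (fix_of_same (hσ s) h3 h4) ((hu _).conj g)
    have h6 : u (t - s) = 1 := by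
      have h7 : u (t - s) = g⁻¹ * (g * u (t - s) * g⁻¹) * g := by group
      rw [h7, h5]
      group
    exact hst (sub_eq_zero.1 (h1 _ h6)).symm
  · have hpow : ∀ n : ℕ, ∀ t, u (n * t) = u t ^ n := by
      intro n t
      induction n with
      | zero =>
        rw [Nat.cast_zero, zero_mul, pow_zero]
        have := hadd 0 0
        rw [add_zero] at this
        exact left_eq_mul.1 this
      | succ n ih => rw [Nat.cast_succ, add_mul, one_mul, hadd, ih, pow_succ]
    refine free_dec_elt hD (hE 1) (hu 1) fun h => h6 ?_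
    rw [← hpow] at h
    have := h1 _ h
    simpa using this

end Cfsg.Agent.H896.L3
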