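import Cfsg.Agent.H896.L3Dec

/-!
# `PSL₃(q)` for S5906, S5907 (task 625, helper896): explicit elements, `Sep 5` for `q ≥ 5`
-/

set_option autoImplicit false
set_option linter.unusedSectionVars false

namespace Cfsg.Agent.H896.L3

open Matrix Cfsg Cfsg.Geo
open Matrix.SpecialLinearGroup (toGL)
open Cfsg.Agent.H940.MaxCls

variable {F : Type*} [Field F]

/-- the statement of S5774 for one field -/
def Hyp74 (F : Type*) [Field F] [Fintype F] : Prop :=
    (∀ W : Submodule F (Fin 3 → F), W ≠ ⊥ → W ≠ ⊤ → Cfsg.Geo.IsMaximalIn (Cfsg.Geo.specialLinear (Fin 3) F) (Cfsg.Geo.subspaceStabilizer W ⊓ Cfsg.Geo.specialLinear (Fin 3) F)) ∧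
    (5 ≤ Fintype.card F → ∀ D : Fin 3 → Submodule F (Fin 3 → F), Cfsg.Geo.IsMDecomposition 1 D → Cfsg.Geo.IsMaximalIn (Cfsg.Geo.specialLinear (Fin 3) F) (Cfsg.Geo.decompositionStabilizer D ⊓ Cfsg.Geo.specialLinear (Fin 3) F)) ∧
    (Fintype.card F ≠ 4 → ∀ K : Subalgebra F (Matrix (Fin 3) (Fin 3) F), Cfsg.Geo.IsFieldSubalgebra 3 K → Cfsg.Geo.IsMaximalIn (Cfsg.Geo.specialLinear (Fin 3) F) (Cfsg.Geo.subalgebraNormalizer K ⊓ Cfsg.Geo.specialLinear (Fin 3) F)) ∧
    (∀ (F₀ : Subfield F) (r : ℕ) (P : Matrix.GeneralLinearGroup (Fin 3) F), r.Prime → Fintype.card F = Nat.card F₀ ^ r → Cfsg.Geo.IsMaximalIn (Cfsg.Geo.specialLinear (Fin 3) F) (Cfsg.Geo.subfieldSubgroup F₀ P ⊓ Cfsg.Geo.specialLinear (Fin 3) F)) ∧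
    (∀ (p : ℕ) (R : Subgroup (Matrix.GeneralLinearGroup (Fin 3) F)), p.Prime → Fintype.card F = p → p % 3 = 1 → Cfsg.Geo.IsLinearSymplecticTypeData 3 R → Cfsg.Geo.IsMaximalIn (Cfsg.Geo.specialLinear (Fin 3) F) (Cfsg.Geo.subgroupNormalizer R ⊓ Cfsg.Geo.specialLinear (Fin 3) F)) ∧
    (Odd (Fintype.card F) → ∀ Q : (Fin 3 → F) → F, Cfsg.Geo.IsNondegenerateQuadraticForm Q → Cfsg.Geo.IsMaximalIn (Cfsg.Geo.specialLinear (Fin 3) F) (Cfsg.Geo.quadSimilarityGroup Q ⊓ Cfsg.Geo.specialLinear (Fin 3) F)) ∧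
    (∀ (σ : F ≃+* F) (f : (Fin 3 → F) → (Fin 3 → F) → F), Cfsg.Geo.IsUnitaryForm σ f → Cfsg.Geo.IsMaximalIn (Cfsg.Geo.specialLinear (Fin 3) F) (Cfsg.Geo.similarityGroup f ⊓ Cfsg.Geo.specialLinear (Fin 3) F))

/-! ### explicit elements -/

def hE (a : F) (ha : a ≠ 0) : SL3 F :=
  ⟨!![a, 0, 0; 0, 1, 0; 0, 0, a⁻¹], by simp [Matrix.det_fin_three, ha]⟩

def uE (t : F) : SL3 F :=
  ⟨!![1, 2 * t, t ^ 2; 0, 1, t; 0, 0, 1], by simp [Matrix.det_fin_three]⟩

def vE (t : F) : SL3 F :=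
  ⟨!![1, 0, 0; t, 1, 0; t ^ 2, 2 * t, 1], by simp [Matrix.det_fin_three]⟩

/-- the transvection group `1 + t E₀₁` -/
def xE (t : F) : SL3 F :=
  ⟨!![1, t, 0; 0, 1, 0; 0, 0, 1], by simp [Matrix.det_fin_three]⟩

theorem xE_add (s t : F) : xE (s + t) = xE s * xE t := by
  apply Subtype.ext
  rw [Matrix.SpecialLinearGroup.coe_mul]
  ext i j
  fin_cases i <;> fin_cases j <;> simp [xE, Matrix.mul_apply, Fin.sum_univ_three, add_comm]

theorem uE_add (s t : F) : uE (s + t) = uE s * uE t := by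
  apply Subtype.ext
  rw [Matrix.SpecialLinearGroup.coe_mul]
  ext i j
  fin_cases i <;> fin_cases j <;> simp [uE, Matrix.mul_apply, Fin.sum_univ_three] <;> ring

theorem xE_unip (t : F) : Unip (xE t) := by
  unfold Unip
  have h : ((xE t : SL3 F) : Matrix (Fin 3) (Fin 3) F) - 1 = !![0, t, 0; 0, 0, 0; 0, 0, 0] := by
    ext i j
    fin_cases i <;> fin_cases j <;> simp [xE]
  rw [h, pow_succ, pow_two]
  ext i j
  fin_cases i <;> fin_cases j <;> simp [Matrix.mul_apply, Fin.sum_univ_three]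

theorem uE_unip (t : F) : Unip (uE t) := by
  unfold Unip
  have h : ((uE t : SL3 F) : Matrix (Fin 3) (Fin 3) F) - 1 = !![0, 2 * t, t ^ 2; 0, 0, t; 0, 0, 0] := by
    ext i j
    fin_cases i <;> fin_cases j <;> simp [uE]
  rw [h, pow_succ, pow_two]
  ext i j
  fin_cases i <;> fin_cases j <;> simp [Matrix.mul_apply, Fin.sum_univ_three]

theorem xE_one (t : F) (h : xE t = 1) : t = 0 := by
  have := congrFun (congrFun (congrArg Subtype.val h) 0) 1
  simpa [xE] using this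

theorem uE_one (t : F) (h : uE t = 1) : t = 0 := by
  have := congrFun (congrFun (congrArg Subtype.val h) 1) 2
  simpa [uE] using this

theorem hE_pow (a : F) (ha : a ≠ 0) : ((hE a ha ^ 3 : SL3 F) : Matrix (Fin 3) (Fin 3) F) =
    !![a ^ 3, 0, 0; 0, 1, 0; 0, 0, a⁻¹ ^ 3] := by
  rw [Matrix.SpecialLinearGroup.coe_pow, pow_succ, pow_two]
  ext i j
  fin_cases i <;> fin_cases j <;> simp [hE, Matrix.mul_apply, Fin.sum_univ_three] <;> ring

theorem hE_bad (a : F) (ha : a ≠ 0) (h3 : a ^ 3 ≠ 1) : Bad (hE a ha) := by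
  refine ⟨⟨Pi.single 1 1, by simp, ?_⟩, fun h => h3 ?_⟩
  · rw [hE_pow]
    ext i
    fin_cases i <;> simp [Matrix.mulVec, dotProduct, Fin.sum_univ_three]
  · have h1 := congrArg (fun x : SL3 F => (x : Matrix (Fin 3) (Fin 3) F) 0 0) h
    simp only [hE_pow] at h1
    simpa using h1

/-- an element of order different from three -/
theorem exists_cube_ne [Fintype F] (h5 : 5 ≤ Fintype.card F) : ∃ a : F, a ≠ 0 ∧ a ^ 3 ≠ 1 := by
  classical
  obtain ⟨g, hg⟩ := IsCyclic.exists_generator (α := Fˣ)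
  refine ⟨g, g.ne_zero, fun h => ?_⟩
  have h1 : g ^ 3 = 1 := Units.ext (by rw [Units.val_pow_eq_pow_val]; exact h)
  have h2 := orderOf_dvd_of_pow_eq_one h1
  rw [orderOf_eq_card_of_forall_mem_zpowers hg, Nat.card_eq_fintype_card, Fintype.card_units] at h2
  have := Nat.le_of_dvd (by norm_num) h2
  omega

theorem xE_bad (h3 : (3 : F) ≠ 0) : Bad (xE (1 : F)) := by
  have h : xE (1 : F) ^ 3 = xE 3 := by
    rw [pow_succ, pow_two, ← xE_add, ← xE_add]
    congr 1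
    norm_num
  refine ⟨⟨Pi.single 0 1, by simp, ?_⟩, fun h' => h3 (xE_one _ (by rw [← h]; exact h'))⟩
  rw [h]
  ext i
  fin_cases i <;> simp [xE, Matrix.mulVec, dotProduct, Fin.sum_univ_three]

/-! ### the parabolic subgroups -/

/-- `⟨e₀, e₁⟩` -/
def W2 (F : Type*) [Field F] : Submodule F (Fin 3 → F) := LinearMap.ker (LinearMap.proj 2)

/-- `⟨e₀⟩` -/
def W1 (F : Type*) [Field F] : Submodule F (Fin 3 → F) := LinearMap.ker (LinearMap.proj 1) ⊓ LinearMap.ker (LinearMap.proj 2)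

theorem mem_W2 {v : Fin 3 → F} : v ∈ W2 F ↔ v 2 = 0 := Iff.rfl
theorem mem_W1 {v : Fin 3 → F} : v ∈ W1 F ↔ v 1 = 0 ∧ v 2 = 0 := Iff.rfl

theorem W1_ne_bot : W1 F ≠ ⊥ := by
  intro h
  have h1 : (Pi.single 0 1 : Fin 3 → F) ∈ W1 F := by
    rw [mem_W1]
    constructor <;> simp
  rw [h, Submodule.mem_bot] at h1
  have := congrFun h1 0
  simp at this

theorem W1_lt_W2 : W1 F < W2 F := by
  refine lt_of_le_of_ne (fun v hv => hv.2) fun h => ?_
  have h1 : (Pi.single 1 1 : Fin 3 → F) ∈ W2 F := by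
    rw [mem_W2]
    simp
  rw [← h, mem_W1] at h1
  simp at h1

theorem W2_ne_top : W2 F ≠ ⊤ := by
  intro h
  have h1 : (Pi.single 2 1 : Fin 3 → F) ∈ W2 F := by
    rw [h]
    exact Submodule.mem_top
  rw [mem_W2] at h1
  simp at h1

theorem W1_ne_top : W1 F ≠ ⊤ := fun h => W2_ne_top (top_le_iff.1 (h ▸ W1_lt_W2.le))
theorem W2_ne_bot : W2 F ≠ ⊥ := fun h => W1_ne_bot (le_bot_iff.1 (h ▸ W1_lt_W2.le))

theorem hE_mem_W1 (a : F) (ha : a ≠ 0) : hE a ha ∈ sub (subspaceStabilizer (W1 F)) := by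
  apply mem_stab
  intro w hw
  rw [mem_W1] at hw ⊢
  simp [hE, Matrix.mulVec, dotProduct, Fin.sum_univ_three, hw.1, hw.2]

theorem hE_mem_W2 (a : F) (ha : a ≠ 0) : hE a ha ∈ sub (subspaceStabilizer (W2 F)) := by
  apply mem_stab
  intro w hw
  rw [mem_W2] at hw ⊢
  simp [hE, Matrix.mulVec, dotProduct, Fin.sum_univ_three, hw]

theorem xE_mem_W1 (t : F) : xE t ∈ sub (subspaceStabilizer (W1 F)) := by
  apply mem_stab
  intro w hw
  rw [mem_W1] at hw ⊢
  simp [xE, Matrix.mulVec, dotProduct, Fin.sum_univ_three, hw.1, hw.2]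

theorem xE_mem_W2 (t : F) : xE t ∈ sub (subspaceStabilizer (W2 F)) := by
  apply mem_stab
  intro w hw
  rw [mem_W2] at hw ⊢
  simp [xE, Matrix.mulVec, dotProduct, Fin.sum_univ_three, hw]

/-! ### transvections -/

theorem tv_mulVec {i j : Fin 3} (h : i ≠ j) (c : F) (w : Fin 3 → F) :
    ((Matrix.SpecialLinearGroup.transvection h c : SL3 F) : Matrix (Fin 3) (Fin 3) F) *ᵥ w = w + Pi.single i (c * w j) := by
  show (1 + Matrix.single i j c) *ᵥ w = _
  rw [Matrix.add_mulVec, Matrix.one_mulVec]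
  congr 1
  ext k
  simp only [Matrix.mulVec, dotProduct, Matrix.single_apply, Pi.single_apply]
  fin_cases i <;> fin_cases j <;> fin_cases k <;> simp [Fin.sum_univ_three]

theorem tv_step {E : Subgroup (SL3 F)} {W : Submodule F (Fin 3 → F)} (hS : Stable E W) {i j : Fin 3} (h : i ≠ j)
    (hm : (Matrix.SpecialLinearGroup.transvection h 1 : SL3 F) ∈ E) {w : Fin 3 → F} (hw : w ∈ W) (hj : w j ≠ 0) :
    (Pi.single i 1 : Fin 3 → F) ∈ W := by
  have h1 := hS _ hm w hw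
  rw [tv_mulVec, one_mul] at h1
  have h2 := W.smul_mem (w j)⁻¹ (W.sub_mem h1 hw)
  have h3 : (w j)⁻¹ • (w + Pi.single i (w j) - w) = Pi.single i 1 := by
    rw [add_sub_cancel_left, ← Pi.single_smul, smul_eq_mul, inv_mul_cancel₀ hj]
  rwa [h3] at h2

theorem eq_top_of_single {W : Submodule F (Fin 3 → F)} (h : ∀ i, (Pi.single i 1 : Fin 3 → F) ∈ W) : W = ⊤ := by
  refine top_le_iff.1 fun v _ => ?_
  have : v = v 0 • Pi.single 0 1 + v 1 • Pi.single 1 1 + v 2 • Pi.single 2 1 := by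
    ext i
    fin_cases i <;> simp
  rw [this]
  exact W.add_mem (W.add_mem (W.smul_mem _ (h 0)) (W.smul_mem _ (h 1))) (W.smul_mem _ (h 2))

/-- a group with all elementary matrices `1 + E_ij` is irreducible -/
theorem irr_of_tv {E : Subgroup (SL3 F)}
    (hE : ∀ (i j : Fin 3) (h : i ≠ j), (Matrix.SpecialLinearGroup.transvection h 1 : SL3 F) ∈ E)
    {W : Submodule F (Fin 3 → F)} (hS : Stable E W) : W = ⊥ ∨ W = ⊤ := by
  by_cases hW : W = ⊥
  · exact Or.inl hW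
  right
  obtain ⟨w, hw, hw0⟩ := Submodule.exists_mem_ne_zero_of_ne_bot hW
  obtain ⟨j, hj⟩ : ∃ j, w j ≠ 0 := by
    by_contra hcon
    push Not at hcon
    exact hw0 (funext hcon)
  have h1 : ∀ i, i ≠ j → (Pi.single i 1 : Fin 3 → F) ∈ W := fun i hi => tv_step hS hi (hE i j hi) hw hj
  apply eq_top_of_single
  intro i
  by_cases hi : i = j
  · subst hi
    obtain ⟨k, hk⟩ : ∃ k : Fin 3, k ≠ i := exists_ne i
    exact tv_step hS hk.symm (hE i k hk.symm) (h1 k hk) (by simp)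
  · exact h1 i hi

/-- the stabiliser of a plane does not stabilise a point -/
theorem free_W2_W1 : Free (sub (subspaceStabilizer (W2 F))) (subspaceStabilizer (W1 F)) := by
  have hm : ∀ (i j : Fin 3) (h : i ≠ j), i ≠ 2 →
      (Matrix.SpecialLinearGroup.transvection h 1 : SL3 F) ∈ sub (subspaceStabilizer (W2 F)) := by
    intro i j h hi
    apply mem_stab
    intro w hw
    rw [mem_W2] at hw ⊢
    rw [tv_mulVec, Pi.add_apply, hw, Pi.single_apply, if_neg hi.symm, add_zero]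
  apply free_stab
  intro W hS
  by_cases hW : W = ⊥
  · rw [hW, finrank_bot]
    intro h
    exact W1_ne_bot (Submodule.finrank_eq_zero.1 h.symm)
  · obtain ⟨w, hw, hw0⟩ := Submodule.exists_mem_ne_zero_of_ne_bot hW
    obtain ⟨j, hj⟩ : ∃ j, w j ≠ 0 := by
      by_contra hcon
      push Not at hcon
      exact hw0 (funext hcon)
    have h01 : (Pi.single 0 1 : Fin 3 → F) ∈ W ∧ (Pi.single 1 1 : Fin 3 → F) ∈ W := by
      by_cases hj0 : j = 0
      · subst hj0
        have h1 := tv_step hS (by decide : (1 : Fin 3) ≠ 0) (hm _ _ _ (by decide)) hw hj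
        exact ⟨tv_step hS (by decide : (0 : Fin 3) ≠ 1) (hm _ _ _ (by decide)) h1 (by simp), h1⟩
      · have h0 := tv_step hS (Ne.symm hj0) (hm _ _ _ (by decide)) hw hj
        exact ⟨h0, tv_step hS (by decide : (1 : Fin 3) ≠ 0) (hm _ _ _ (by decide)) h0 (by simp)⟩
    have hle : W2 F ≤ W := by
      intro v hv
      rw [mem_W2] at hv
      have : v = v 0 • Pi.single 0 1 + v 1 • Pi.single 1 1 := by
        ext i
        fin_cases i <;> simp [hv]
      rw [this]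
      exact W.add_mem (W.smul_mem _ h01.1) (W.smul_mem _ h01.2)
    have h1 := Submodule.finrank_lt_finrank_of_lt (W1_lt_W2 (F := F))
    have h2 := Submodule.finrank_mono hle
    omega

/-- an irreducible group is in no parabolic subgroup -/
theorem free_of_irr {E : Subgroup (SL3 F)} (hE : ∀ W : Submodule F (Fin 3 → F), Stable E W → W = ⊥ ∨ W = ⊤)
    {W : Submodule F (Fin 3 → F)} (h0 : W ≠ ⊥) (h1 : W ≠ ⊤) : Free E (subspaceStabilizer W) := by
  apply free_stab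
  intro W' hS
  rcases hE W' hS with rfl | rfl
  · rw [finrank_bot]
    intro h
    exact h0 (Submodule.finrank_eq_zero.1 h.symm)
  · rw [finrank_top]
    intro h
    exact h1 (Submodule.eq_top_of_finrank_eq h.symm)

end Cfsg.Agent.H896.L3
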