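import Cfsg.Agent.H896.L3Big

/-!
# `PSL₃(q)` for S5906, S5907 (task 625, helper896): even `q`
-/

set_option autoImplicit false
set_option linter.unusedSectionVars false

namespace Cfsg.Agent.H896.L3

open Matrix Cfsg Cfsg.Geo
open Matrix.SpecialLinearGroup (toGL)
open Cfsg.Agent.H940.MaxCls

variable {F : Type*} [Field F]

/-! ### subfields -/

theorem exists_fixed_field [Finite F] (σ : F ≃+* F) :
    ∃ K : Subfield F, Nat.card F = Nat.card K ^ orderOf σ := by
  classical
  have : Finite (F ≃+* F) := Finite.of_injective (fun f : F ≃+* F => (f : F → F)) DFunLike.coe_injective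
  have : Fintype (Subgroup.zpowers σ) := Fintype.ofFinite _
  refine ⟨FixedPoints.subfield (Subgroup.zpowers σ) F, ?_⟩
  have h1 := FixedPoints.finrank_eq_card (Subgroup.zpowers σ) F
  rw [← Nat.card_eq_fintype_card, Nat.card_zpowers] at h1
  rw [← h1]
  exact Module.natCard_eq_pow_finrank

/-- a subfield of prime index -/
theorem exists_prime_index [Fintype F] {p : ℕ} [Fact p.Prime] [CharP F p] (hne : ∃ x : F, x ^ p ≠ x) :
    ∃ (F₀ : Subfield F) (r : ℕ), r.Prime ∧ Fintype.card F = Nat.card F₀ ^ r := by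
  have : Finite (F ≃+* F) := Finite.of_injective (fun f : F ≃+* F => (f : F → F)) DFunLike.coe_injective
  let φ : F ≃+* F := frobeniusEquiv F p
  have hφ : φ ≠ 1 := by
    intro h
    obtain ⟨x, hx⟩ := hne
    apply hx
    have h1 := DFunLike.congr_fun h x
    rw [frobeniusEquiv_apply] at h1
    exact h1
  have ho : orderOf φ ≠ 1 := fun h => hφ (orderOf_eq_one_iff.1 h)
  have hpos : 0 < orderOf φ := orderOf_pos φ
  set r := (orderOf φ).minFac with hr
  have hrp : r.Prime := Nat.minFac_prime ho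
  have hdvd : r ∣ orderOf φ := Nat.minFac_dvd _
  obtain ⟨k, hk⟩ := hdvd
  have hk0 : k ≠ 0 := by
    rintro rfl
    omega
  have h1 : orderOf (φ ^ k) = r := by
    rw [orderOf_pow' _ hk0, hk, Nat.gcd_eq_right (Dvd.intro_left r rfl)]
    exact Nat.mul_div_cancel _ (Nat.pos_of_ne_zero hk0)
  obtain ⟨F₀, hF₀⟩ := exists_fixed_field (φ ^ k)
  rw [h1, Nat.card_eq_fintype_card] at hF₀
  exact ⟨F₀, r, hrp, hF₀⟩

/-- conjugates of elementary matrices -/
theorem tv_mem_subfield (F₀ : Subfield F) {i j : Fin 3} (h : i ≠ j) :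
    (Matrix.SpecialLinearGroup.transvection h 1 : SL3 F) ∈ sub (subfieldSubgroup F₀ 1) := by
  rw [mem_sub, subfieldSubgroup, Subgroup.mem_map]
  refine ⟨toGL (Matrix.SpecialLinearGroup.transvection h 1 : SL3 F), Subgroup.mem_sup_left ?_, by simp⟩
  refine ⟨toGL (Matrix.SpecialLinearGroup.transvection h 1 : SL3 F₀), ?_⟩
  apply Units.ext
  ext a b
  show F₀.subtype ((1 + Matrix.single i j (1 : F₀)) a b) = (1 + Matrix.single i j (1 : F)) a b
  rw [Matrix.add_apply, Matrix.add_apply, map_add, Matrix.one_apply, Matrix.one_apply, Matrix.single_apply,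
    Matrix.single_apply]
  split_ifs <;> simp

/-- a regular unipotent element -/
def rE (F : Type*) [Field F] : SL3 F :=
  ⟨!![1, 1, 0; 0, 1, 1; 0, 0, 1], by simp [Matrix.det_fin_three]⟩

theorem rE_eq : rE F = Matrix.SpecialLinearGroup.transvection (by decide : (1 : Fin 3) ≠ 2) 1 *
    Matrix.SpecialLinearGroup.transvection (by decide : (0 : Fin 3) ≠ 1) 1 := by
  apply Subtype.ext
  rw [Matrix.SpecialLinearGroup.coe_mul]
  show _ = (1 + Matrix.single 1 2 (1 : F)) * (1 + Matrix.single 0 1 (1 : F))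
  ext i j
  fin_cases i <;> fin_cases j <;> simp [rE, Matrix.mul_apply, Fin.sum_univ_three, Matrix.one_apply]

theorem xE_eq : xE (1 : F) = Matrix.SpecialLinearGroup.transvection (by decide : (0 : Fin 3) ≠ 1) 1 := by
  apply Subtype.ext
  show _ = 1 + Matrix.single 0 1 (1 : F)
  ext i j
  fin_cases i <;> fin_cases j <;> simp [xE, Matrix.one_apply]

theorem rE_mem (F₀ : Subfield F) : rE F ∈ sub (subfieldSubgroup F₀ 1) := by
  rw [rE_eq]
  exact Subgroup.mul_mem _ (tv_mem_subfield F₀ _) (tv_mem_subfield F₀ _)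

theorem xE_mem (F₀ : Subfield F) : xE (1 : F) ∈ sub (subfieldSubgroup F₀ 1) := by
  rw [xE_eq]
  exact tv_mem_subfield F₀ _

theorem rE_unip : Unip (rE F) := by
  unfold Unip
  have h : ((rE F : SL3 F) : Matrix (Fin 3) (Fin 3) F) - 1 = !![0, 1, 0; 0, 0, 1; 0, 0, 0] := by
    ext i j
    fin_cases i <;> fin_cases j <;> simp [rE]
  rw [h, pow_succ, pow_two]
  ext i j
  fin_cases i <;> fin_cases j <;> simp [Matrix.mul_apply, Fin.sum_univ_three]

theorem rE_six (h2 : (2 : F) = 0) : rE F ^ 6 ≠ 1 := by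
  intro h
  have h1 := congrArg (fun x : SL3 F => (x : Matrix (Fin 3) (Fin 3) F) 0 2) h
  simp only [Matrix.SpecialLinearGroup.coe_pow] at h1
  have e2 : ((rE F : SL3 F) : Matrix (Fin 3) (Fin 3) F) ^ 2 = !![1, 2, 1; 0, 1, 2; 0, 0, 1] := by
    rw [pow_two]
    ext i j
    fin_cases i <;> fin_cases j <;> simp [rE, Matrix.mul_apply, Fin.sum_univ_three] <;> norm_num
  have e3 : ((rE F : SL3 F) : Matrix (Fin 3) (Fin 3) F) ^ 3 = !![1, 3, 3; 0, 1, 3; 0, 0, 1] := by
    rw [pow_succ, e2]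
    ext i j
    fin_cases i <;> fin_cases j <;> simp [rE, Matrix.mul_apply, Fin.sum_univ_three] <;> norm_num
  have e6 : ((rE F : SL3 F) : Matrix (Fin 3) (Fin 3) F) ^ 6 = !![1, 6, 15; 0, 1, 6; 0, 0, 1] := by
    have : ((rE F : SL3 F) : Matrix (Fin 3) (Fin 3) F) ^ 6 = ((rE F : SL3 F) : Matrix (Fin 3) (Fin 3) F) ^ 3 *
      ((rE F : SL3 F) : Matrix (Fin 3) (Fin 3) F) ^ 3 := by rw [← pow_add]
    rw [this, e3]
    ext i j
    fin_cases i <;> fin_cases j <;> simp [Matrix.mul_apply, Fin.sum_univ_three] <;> norm_num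
  rw [e6] at h1
  simp at h1
  have h3 : (1 : F) = 0 := by linear_combination h1 - 7 * h2
  exact one_ne_zero h3

theorem sep_even [Fintype F] (hyp : Hyp74 F) (h5 : 5 ≤ Fintype.card F) (h2 : (2 : F) = 0) : Sep 5 (SL3 F) := by
  have hp : Fact (Nat.Prime 2) := ⟨Nat.prime_two⟩
  have hc : CharP F 2 := CharTwo.of_one_ne_zero_of_two_eq_zero one_ne_zero h2
  have hne : ∃ x : F, x ^ 2 ≠ x := by
    classical
    by_contra hcon
    push Not at hcon
    have h1 : (Finset.univ : Finset F) ⊆ {0, 1} := by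
      intro x _
      have h3 : x * (x - 1) = 0 := by linear_combination hcon x
      rcases mul_eq_zero.1 h3 with h | h
      · simp [h]
      · simp [sub_eq_zero.1 h]
    have h4 := Finset.card_le_card h1
    rw [Finset.card_univ] at h4
    have h6 := Finset.card_le_two (a := (0 : F)) (b := 1)
    omega
  obtain ⟨F₀, r, hr, hcard⟩ := exists_prime_index (F := F) (p := 2) hne
  have h3 : (3 : F) ≠ 0 := by
    intro h
    have h3 : (1 : F) = 0 := by linear_combination h - h2
    exact one_ne_zero h3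
  exact sep_big hyp h5 (coatom_of_max (hyp.2.2.2.1 F₀ r 1 hr hcard))
    (fun W hW => irr_of_tv (fun i j h => tv_mem_subfield F₀ h) hW) ⟨_, xE_mem F₀, xE_bad h3⟩
    (free_dec_elt stdD_dec (rE_mem F₀) rE_unip (rE_six h2))

end Cfsg.Agent.H896.L3
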