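import Cfsg.Agent.H896.L3Even

/-!
# `PSL₃(4)` for S5906, S5907 (task 625, helper896)
-/

set_option autoImplicit false
set_option linter.unusedSectionVars false

namespace Cfsg.Agent.H896.L3

open Matrix Cfsg Cfsg.Geo
open Matrix.SpecialLinearGroup (toGL)
open Cfsg.Agent.H940.MaxCls

variable {F : Type*} [Field F]

/-- apartness of maximal subgroups that are not conjugate -/
theorem apart_of_ne {G : Type*} [Group G] {A B : Subgroup G} (hA : IsCoatom A) (hB : IsCoatom B)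
    (hne : ∀ g : G, Subgroup.map (MulAut.conj g).toMonoidHom A ≠ B) : Apart A B := by
  intro g L h1 h2
  by_contra hL
  have e1 : L = A := by
    rcases eq_or_lt_of_le h1 with h | h
    · exact h.symm
    · exact absurd (hA.2 L h) hL
  have hBc : IsCoatom (Subgroup.map (MulAut.conj g).toMonoidHom B) :=
    (OrderIso.isCoatom_iff ((MulAut.conj g).mapSubgroup) B).2 hB
  have e2 : L = Subgroup.map (MulAut.conj g).toMonoidHom B := by
    rcases eq_or_lt_of_le (map_conj_le h2) with h | h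
    · exact h.symm
    · exact absurd (hBc.2 L h) hL
  refine hne g⁻¹ ?_
  rw [← e1, e2]
  ext y
  rw [mem_map_conj, mem_map_conj]
  have h3 : g⁻¹ * (g⁻¹⁻¹ * y * g⁻¹) * g = y := by group
  rw [h3]

/-! ### the unitary group -/

/-- the standard hermitian form over the field with four elements -/
def Hf (F : Type*) [Field F] (u v : Fin 3 → F) : F := ∑ i, u i * v i ^ 2

theorem Hf_unitary (hc : ∀ x : F, x ^ 4 = x) (h2 : (2 : F) = 0) (hw : ∃ x : F, x ^ 2 ≠ x) :
    ∃ σ : F ≃+* F, IsUnitaryForm σ (Hf F) := by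
  let σ : F ≃+* F :=
    { toFun := fun x => x ^ 2
      invFun := fun x => x ^ 2
      left_inv := fun x => by
        show (x ^ 2) ^ 2 = x
        rw [← pow_mul]
        exact hc x
      right_inv := fun x => by
        show (x ^ 2) ^ 2 = x
        rw [← pow_mul]
        exact hc x
      map_mul' := fun x y => mul_pow x y 2
      map_add' := fun x y => by
        show (x + y) ^ 2 = x ^ 2 + y ^ 2
        linear_combination (x * y) * h2 }
  have hσ : ∀ x, σ x = x ^ 2 := fun _ => rfl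
  refine ⟨σ, ?_, ?_, ?_, ?_, ?_, ?_⟩
  · intro h
    obtain ⟨x, hx⟩ := hw
    exact hx (DFunLike.congr_fun h x)
  · intro a
    rw [hσ, hσ, ← pow_mul]
    exact hc a
  · intro x y v
    simp only [Hf, Fin.sum_univ_three, Pi.add_apply]
    ring
  · intro c x v
    simp only [Hf, Fin.sum_univ_three, Pi.smul_apply, smul_eq_mul]
    ring
  · intro v w
    rw [hσ]
    simp only [Hf, Fin.sum_univ_three]
    have e : ∀ a : F, a ^ 2 ^ 2 = a := hc
    have e0 := hc (v 0)
    have e1 := hc (v 1)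
    have e2 := hc (v 2)
    linear_combination (-(w 0 * v 0 ^ 2 * (w 1 * v 1 ^ 2)) - (w 0 * v 0 ^ 2 * (w 2 * v 2 ^ 2)) -
      (w 1 * v 1 ^ 2 * (w 2 * v 2 ^ 2))) * h2 - (w 0 ^ 2) * e0 - (w 1 ^ 2) * e1 - (w 2 ^ 2) * e2
  · have key : ∀ v : Fin 3 → F, v ≠ 0 → ∃ i, v i ≠ 0 := by
      intro v hv
      by_contra hcon
      push Not at hcon
      exact hv (funext hcon)
    intro v hv
    obtain ⟨i, hi⟩ := key v hv
    constructor
    · refine ⟨Pi.single i 1, ?_⟩
      simp only [Hf, Pi.single_apply]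
      simp [hi]
    · refine ⟨Pi.single i 1, ?_⟩
      simp only [Hf, Pi.single_apply]
      simp [hi]

theorem trace_of_mem (hc : ∀ x : F, x ^ 4 = x) (h2 : (2 : F) = 0) {x : SL3 F} (hx : toGL x ∈ similarityGroup (Hf F)) :
    (x : Matrix (Fin 3) (Fin 3) F).trace ^ 2 = ((x⁻¹ : SL3 F) : Matrix (Fin 3) (Fin 3) F).trace := by
  obtain ⟨c, hcx⟩ := hx
  have hcx' : ∀ u v, Hf F ((x : Matrix (Fin 3) (Fin 3) F) *ᵥ u) ((x : Matrix (Fin 3) (Fin 3) F) *ᵥ v) = (c : F) * Hf F u v := hcx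
  set A : Matrix (Fin 3) (Fin 3) F := (x : Matrix (Fin 3) (Fin 3) F) with hA
  have hA1 : ∀ i j : Fin 3, (∑ k, A k i * A k j ^ 2) = (c : F) * (if i = j then 1 else 0) := by
    intro i j
    have h1 := hcx' (Pi.single i 1) (Pi.single j 1)
    rw [Matrix.mulVec_single_one, Matrix.mulVec_single_one] at h1
    simp only [Hf, Matrix.col_apply] at h1
    rw [h1]
    congr 1
    rw [Finset.sum_eq_single i]
    · rw [Pi.single_eq_same, one_mul, Pi.single_apply]
      split_ifs <;> simp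
    · intro k _ hk
      rw [Pi.single_eq_of_ne hk, zero_mul]
    · intro h
      exact absurd (Finset.mem_univ i) h
  have hc1 : (c : F) = 1 := by
    have h1 := hA1 0 0
    rw [if_pos rfl, mul_one, Fin.sum_univ_three] at h1
    have h3 : (c : F) ^ 2 = c := by
      rw [← h1]
      have e0 := hc (A 0 0)
      have e1 := hc (A 1 0)
      have e2 := hc (A 2 0)
      linear_combination ((A 0 0) ^ 3 * (A 1 0) ^ 3 + (A 0 0) ^ 3 * (A 2 0) ^ 3 + (A 1 0) ^ 3 * (A 2 0) ^ 3) * h2 +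
        (A 0 0) ^ 2 * e0 + (A 1 0) ^ 2 * e1 + (A 2 0) ^ 2 * e2
    have h4 : (c : F) * ((c : F) - 1) = 0 := by linear_combination h3
    exact sub_eq_zero.1 ((mul_eq_zero.1 h4).resolve_left c.ne_zero)
  -- `Aᵀ A^(2) = 1`
  have hB : Aᵀ * (A.map fun a => a ^ 2) = 1 := by
    ext i j
    rw [Matrix.mul_apply, Matrix.one_apply]
    simp only [Matrix.transpose_apply, Matrix.map_apply]
    rw [hA1 i j, hc1, one_mul]
  have hAi : (x⁻¹ : SL3 F).1 * A = 1 := by
    have := congrArg Subtype.val (inv_mul_cancel x)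
    rw [Matrix.SpecialLinearGroup.coe_mul] at this
    exact this
  have hAi' : Aᵀ * ((x⁻¹ : SL3 F).1)ᵀ = 1 := by
    rw [← Matrix.transpose_mul, hAi, Matrix.transpose_one]
  have h5 : (A.map fun a => a ^ 2) = ((x⁻¹ : SL3 F).1)ᵀ := by
    have h6 := _root_.mul_eq_one_comm.1 hAi'
    calc (A.map fun a => a ^ 2) = (((x⁻¹ : SL3 F).1)ᵀ * Aᵀ) * (A.map fun a => a ^ 2) := by rw [h6, one_mul]
      _ = _ := by rw [mul_assoc, hB, mul_one]
  have h7 := congrArg Matrix.trace h5
  rw [Matrix.trace_transpose] at h7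
  rw [← h7]
  simp only [Matrix.trace, Matrix.diag_apply, Matrix.map_apply, Fin.sum_univ_three]
  linear_combination (A 0 0 * A 1 1 + A 0 0 * A 2 2 + A 1 1 * A 2 2) * h2

theorem trace_conj (g x : SL3 F) :
    ((g * x * g⁻¹ : SL3 F) : Matrix (Fin 3) (Fin 3) F).trace = (x : Matrix (Fin 3) (Fin 3) F).trace := by
  have hg : ((g⁻¹ : SL3 F) : Matrix (Fin 3) (Fin 3) F) * (g : Matrix (Fin 3) (Fin 3) F) = 1 := by
    have := congrArg Subtype.val (inv_mul_cancel g)
    rw [Matrix.SpecialLinearGroup.coe_mul] at this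
    exact this
  rw [Matrix.SpecialLinearGroup.coe_mul, Matrix.SpecialLinearGroup.coe_mul, Matrix.trace_mul_comm, ← mul_assoc, hg,
    one_mul]

theorem free_unit (hc : ∀ x : F, x ^ 4 = x) (h2 : (2 : F) = 0) {E : Subgroup (SL3 F)} {x : SL3 F} (hx : x ∈ E)
    (ht : (x : Matrix (Fin 3) (Fin 3) F).trace ^ 2 ≠ ((x⁻¹ : SL3 F) : Matrix (Fin 3) (Fin 3) F).trace) :
    Free E (similarityGroup (Hf F)) := by
  intro g
  refine ⟨x, hx, fun h => ht ?_⟩
  have h1 := trace_of_mem hc h2 h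
  rw [trace_conj] at h1
  rw [h1]
  have : (g * x * g⁻¹)⁻¹ = g * x⁻¹ * g⁻¹ := by group
  rw [this, trace_conj]

def x1E (w : F) : SL3 F := ⟨!![1, 0, 0; 0, 0, -1; 0, 1, w], by simp [Matrix.det_fin_three]⟩
def x2E (w : F) : SL3 F := ⟨!![0, -1, 0; 1, w, 0; 0, 0, 1], by simp [Matrix.det_fin_three]⟩

/-- of order seven; conjugate of a matrix over the prime field -/
def cE (w : F) (hw : w ≠ 0) : SL3 F := ⟨!![0, 0, w; w⁻¹, 0, -1; 0, 1, 0], by simp [Matrix.det_fin_three, hw]⟩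

theorem x1E_mem (w : F) : x1E w ∈ sub (subspaceStabilizer (W1 F)) := by
  apply mem_stab
  intro v hv
  rw [mem_W1] at hv ⊢
  simp [x1E, Matrix.mulVec, dotProduct, Fin.sum_univ_three, hv.1, hv.2]

theorem x2E_mem (w : F) : x2E w ∈ sub (subspaceStabilizer (W2 F)) := by
  apply mem_stab
  intro v hv
  rw [mem_W2] at hv ⊢
  simp [x2E, Matrix.mulVec, dotProduct, Fin.sum_univ_three, hv]

theorem trace_inv (x : SL3 F) : ((x⁻¹ : SL3 F) : Matrix (Fin 3) (Fin 3) F).trace =
    (x 0 0 * x 1 1 - x 0 1 * x 1 0) + (x 0 0 * x 2 2 - x 0 2 * x 2 0) + (x 1 1 * x 2 2 - x 1 2 * x 2 1) := by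
  rw [Matrix.SpecialLinearGroup.coe_inv, Matrix.trace_fin_three, Matrix.adjugate_fin_three]
  simp
  ring

end Cfsg.Agent.H896.L3
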