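import Cfsg.Agent.H896.L3Four

/-!
# `PSL₃(4)` for S5906, S5907 (task 625, helper896): two classes of `PSL₃(2)`, assembly
-/

set_option autoImplicit false
set_option linter.unusedSectionVars false

namespace Cfsg.Agent.H896.L3

open Matrix Cfsg Cfsg.Geo
open Matrix.SpecialLinearGroup (toGL)
open Cfsg.Agent.H940.MaxCls

variable {F : Type*} [Field F]

/-- conjugation by an element of `GL₃` -/
def cj (P : GL (Fin 3) F) (x : SL3 F) : SL3 F :=
  ⟨(P : Matrix (Fin 3) (Fin 3) F) * x * ((P⁻¹ : GL (Fin 3) F) : Matrix (Fin 3) (Fin 3) F), by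
    rw [Matrix.det_mul, Matrix.det_mul, x.2, mul_one, ← Matrix.det_mul, ← Units.val_mul, mul_inv_cancel, Units.val_one,
      Matrix.det_one]⟩

theorem toGL_cj (P : GL (Fin 3) F) (x : SL3 F) : toGL (cj P x) = P * toGL x * P⁻¹ := Units.ext rfl

theorem mem_subfield_one {F₀ : Subfield F} {g : GL (Fin 3) F} : g ∈ subfieldSubgroup F₀ 1 ↔
    g ∈ (Matrix.GeneralLinearGroup.map (F₀.subtype : F₀ →+* F)).range ⊔ scalars (Fin 3) F := by
  rw [subfieldSubgroup, Subgroup.mem_map]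
  constructor
  · rintro ⟨y, hy, rfl⟩
    simpa using hy
  · intro h
    exact ⟨g, h, by simp⟩

theorem mem_subfield_conj {F₀ : Subfield F} {P g : GL (Fin 3) F} : P * g * P⁻¹ ∈ subfieldSubgroup F₀ P ↔
    g ∈ subfieldSubgroup F₀ 1 := by
  rw [mem_subfield_one, subfieldSubgroup, Subgroup.mem_map]
  constructor
  · rintro ⟨y, hy, h⟩
    have : y = g := by
      have h1 : P * y * P⁻¹ = P * g * P⁻¹ := h
      exact mul_left_cancel (mul_right_cancel h1)
    rwa [← this]
  · intro h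
    exact ⟨g, h, rfl⟩

theorem cj_mem {F₀ : Subfield F} {P : GL (Fin 3) F} {x : SL3 F} (hx : x ∈ sub (subfieldSubgroup F₀ 1)) :
    cj P x ∈ sub (subfieldSubgroup F₀ P) := by
  rw [mem_sub, toGL_cj]
  exact mem_subfield_conj.2 hx

theorem map_mem_subfield {F₀ : Subfield F} (y : SL3 F₀) :
    Matrix.SpecialLinearGroup.map F₀.subtype y ∈ sub (subfieldSubgroup F₀ 1) := by
  rw [mem_sub, mem_subfield_one]
  apply Subgroup.mem_sup_left
  exact ⟨toGL y, Units.ext rfl⟩

theorem irr_conj {F₀ : Subfield F} (P : GL (Fin 3) F) {W : Submodule F (Fin 3 → F)}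
    (hS : Stable (sub (subfieldSubgroup F₀ P)) W) : W = ⊥ ∨ W = ⊤ := by
  have hPi : (P : Matrix (Fin 3) (Fin 3) F) * ((P⁻¹ : GL (Fin 3) F) : Matrix (Fin 3) (Fin 3) F) = 1 := by
    rw [← Units.val_mul, mul_inv_cancel, Units.val_one]
  have hPi' : ((P⁻¹ : GL (Fin 3) F) : Matrix (Fin 3) (Fin 3) F) * (P : Matrix (Fin 3) (Fin 3) F) = 1 := by
    rw [← Units.val_mul, inv_mul_cancel, Units.val_one]
  let W' : Submodule F (Fin 3 → F) := W.comap (Matrix.toLin' (P : Matrix (Fin 3) (Fin 3) F))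
  have hmem : ∀ w, w ∈ W' ↔ (P : Matrix (Fin 3) (Fin 3) F) *ᵥ w ∈ W := fun w => Iff.rfl
  have h1 : Stable (sub (subfieldSubgroup F₀ 1)) W' := by
    intro x hx w hw
    rw [hmem] at hw ⊢
    have h2 := hS _ (cj_mem (P := P) hx) _ hw
    have h3 : ((cj P x : SL3 F) : Matrix (Fin 3) (Fin 3) F) *ᵥ ((P : Matrix (Fin 3) (Fin 3) F) *ᵥ w) =
        (P : Matrix (Fin 3) (Fin 3) F) *ᵥ ((x : Matrix (Fin 3) (Fin 3) F) *ᵥ w) := by
      rw [Matrix.mulVec_mulVec, Matrix.mulVec_mulVec]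
      congr 1
      show (P : Matrix (Fin 3) (Fin 3) F) * x * ((P⁻¹ : GL (Fin 3) F) : Matrix (Fin 3) (Fin 3) F) * P = _
      rw [mul_assoc, hPi', mul_one]
    rwa [h3] at h2
  have hback : ∀ w, w ∈ W ↔ ((P⁻¹ : GL (Fin 3) F) : Matrix (Fin 3) (Fin 3) F) *ᵥ w ∈ W' := by
    intro w
    rw [hmem, Matrix.mulVec_mulVec, hPi, Matrix.one_mulVec]
  rcases irr_of_tv (fun i j h => tv_mem_subfield F₀ h) h1 with h | h
  · left
    rw [eq_bot_iff]
    intro w hw
    have h2 := (hback w).1 hw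
    rw [h, Submodule.mem_bot] at h2
    rw [Submodule.mem_bot, ← Matrix.one_mulVec w, ← hPi, ← Matrix.mulVec_mulVec, h2, Matrix.mulVec_zero]
  · right
    rw [eq_top_iff]
    intro w _
    rw [hback, h]
    exact Submodule.mem_top

/-- `diag(w, 1, 1)` -/
def dG (w : F) (hw : w ≠ 0) : GL (Fin 3) F where
  val := !![w, 0, 0; 0, 1, 0; 0, 0, 1]
  inv := !![w⁻¹, 0, 0; 0, 1, 0; 0, 0, 1]
  val_inv := by
    ext i j
    fin_cases i <;> fin_cases j <;> simp [Matrix.mul_apply, Fin.sum_univ_three, hw]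
  inv_val := by
    ext i j
    fin_cases i <;> fin_cases j <;> simp [Matrix.mul_apply, Fin.sum_univ_three, hw]

theorem cE_eq (w : F) (hw : w ≠ 0) : cE w hw = cj (dG w hw) (cE 1 one_ne_zero) := by
  apply Subtype.ext
  show _ = (!![w, 0, 0; 0, 1, 0; 0, 0, 1] : Matrix (Fin 3) (Fin 3) F) * _ * !![w⁻¹, 0, 0; 0, 1, 0; 0, 0, 1]
  ext i j
  fin_cases i <;> fin_cases j <;> simp [cE, Matrix.mul_apply, Fin.sum_univ_three]

theorem cE_one_mem (F₀ : Subfield F) : cE (1 : F) one_ne_zero ∈ sub (subfieldSubgroup F₀ 1) := by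
  have : cE (1 : F) one_ne_zero = Matrix.SpecialLinearGroup.map F₀.subtype (cE (1 : F₀) one_ne_zero) := by
    apply Subtype.ext
    show _ = (cE (1 : F₀) one_ne_zero : Matrix (Fin 3) (Fin 3) F₀).map F₀.subtype
    ext i j
    fin_cases i <;> fin_cases j <;> simp [cE]
  rw [this]
  exact map_mem_subfield _

/-! ### the normaliser of `SL₃(2)` in `GL₃(4)` -/

theorem det_of_norm (hc : ∀ x : F, x ^ 4 = x) (h2 : (2 : F) = 0) {F₀ : Subfield F} (h0 : ∀ x ∈ F₀, x ^ 2 = x)
    {h : GL (Fin 3) F}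
    (hn : ∀ (i j : Fin 3) (hij : i ≠ j),
      h * toGL (Matrix.SpecialLinearGroup.transvection hij 1 : SL3 F) * h⁻¹ ∈ subfieldSubgroup F₀ 1) :
    (h : Matrix (Fin 3) (Fin 3) F).det ^ 2 = (h : Matrix (Fin 3) (Fin 3) F).det := by
  let σ : F →+* F :=
    { toFun := fun x => x ^ 2
      map_one' := one_pow 2
      map_mul' := fun x y => mul_pow x y 2
      map_zero' := by simp
      map_add' := fun x y => by
        show (x + y) ^ 2 = x ^ 2 + y ^ 2
        linear_combination (x * y) * h2 }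
  have hσ : ∀ x, σ x = x ^ 2 := fun _ => rfl
  let h' : GL (Fin 3) F := Matrix.GeneralLinearGroup.map σ h
  -- the conjugates have entries in the prime field
  have key : ∀ (i j : Fin 3) (hij : i ≠ j),
      Matrix.GeneralLinearGroup.map σ (h * toGL (Matrix.SpecialLinearGroup.transvection hij 1 : SL3 F) * h⁻¹) =
        h * toGL (Matrix.SpecialLinearGroup.transvection hij 1 : SL3 F) * h⁻¹ := by
    intro i j hij
    set t : GL (Fin 3) F := toGL (Matrix.SpecialLinearGroup.transvection hij 1 : SL3 F) with ht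
    have ht2 : t * t = 1 := by
      rw [ht, ← map_mul, ← Matrix.SpecialLinearGroup.transvection_add]
      rw [one_add_one_eq_two, h2, Matrix.SpecialLinearGroup.transvection_coeff_zero, map_one]
    have hx := hn i j hij
    rw [mem_subfield_one] at hx
    obtain ⟨y, ⟨y0, rfl⟩, z, hz, hyz⟩ := Subgroup.mem_sup_of_normal_right.1 hx
    rw [mem_scalars_iff] at hz
    obtain ⟨c, hc'⟩ := hz
    have hx2 : (h * t * h⁻¹) * (h * t * h⁻¹) = 1 := by
      have : (h * t * h⁻¹) * (h * t * h⁻¹) = h * (t * t) * h⁻¹ := by group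
      rw [this, ht2]
      group
    -- `y² c² = 1`
    have hyval : ∀ a b : Fin 3, ((Matrix.GeneralLinearGroup.map (F₀.subtype : F₀ →+* F) y0 : GL (Fin 3) F) :
        Matrix (Fin 3) (Fin 3) F) a b ∈ F₀ := fun a b => ((y0 : Matrix (Fin 3) (Fin 3) F₀) a b).2
    set Y : Matrix (Fin 3) (Fin 3) F := ((Matrix.GeneralLinearGroup.map (F₀.subtype : F₀ →+* F) y0 : GL (Fin 3) F) :
        Matrix (Fin 3) (Fin 3) F) with hY
    have hval : ((h * t * h⁻¹ : GL (Fin 3) F) : Matrix (Fin 3) (Fin 3) F) = (c : F) • Y := by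
      rw [← hyz, Units.val_mul, hc', Matrix.mul_smul, mul_one]
    have hsq : ((c : F) ^ 2) • (Y * Y) = 1 := by
      have h3 := congrArg (fun g : GL (Fin 3) F => (g : Matrix (Fin 3) (Fin 3) F)) hx2
      simp only [Units.val_mul (h * t * h⁻¹), hval, Units.val_one] at h3
      rw [Matrix.smul_mul, Matrix.mul_smul, smul_smul] at h3
      rw [pow_two]
      exact h3
    have hc2 : (c : F) ^ 2 = 1 := by
      have h4 := congrFun (congrFun hsq 0) 0
      rw [Matrix.smul_apply, smul_eq_mul, Matrix.one_apply_eq] at h4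
      have h5 : (Y * Y) 0 0 ∈ F₀ := by
        rw [Matrix.mul_apply]
        exact F₀.sum_mem fun k _ => F₀.mul_mem (hyval _ _) (hyval _ _)
      have h6 := h0 _ h5
      have h7 : (Y * Y) 0 0 ≠ 0 := by
        intro h
        rw [h, mul_zero] at h4
        exact zero_ne_one h4
      have h8 : (Y * Y) 0 0 = 1 := by
        have h9 : (Y * Y) 0 0 * ((Y * Y) 0 0 - 1) = 0 := by linear_combination h6
        exact sub_eq_zero.1 ((mul_eq_zero.1 h9).resolve_left h7)
      rw [h8, mul_one] at h4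
      exact h4
    have hc1 : (c : F) = 1 := by
      have h9 : ((c : F) - 1) ^ 2 = 0 := by linear_combination hc2 - ((c : F) - 1) * h2
      exact sub_eq_zero.1 (pow_eq_zero_iff (by norm_num) |>.1 h9)
    apply Units.ext
    show ((h * t * h⁻¹ : GL (Fin 3) F) : Matrix (Fin 3) (Fin 3) F).map σ = _
    rw [hval, hc1, one_smul]
    ext a b
    rw [Matrix.map_apply, hσ]
    exact h0 _ (hyval a b)
  -- so `h⁻¹ h'` is a scalar
  have hcomm : ∀ (i j : Fin 3), i ≠ j → Matrix.single i j (1 : F) * ((h⁻¹ * h' : GL (Fin 3) F) : Matrix (Fin 3) (Fin 3) F) =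
      ((h⁻¹ * h' : GL (Fin 3) F) : Matrix (Fin 3) (Fin 3) F) * Matrix.single i j (1 : F) := by
    intro i j hij
    have h3 := key i j hij
    set t : GL (Fin 3) F := toGL (Matrix.SpecialLinearGroup.transvection hij 1 : SL3 F) with ht
    have ht' : Matrix.GeneralLinearGroup.map σ t = t := by
      apply Units.ext
      ext a b
      show σ ((1 + Matrix.single i j (1 : F)) a b) = (1 + Matrix.single i j (1 : F)) a b
      rw [hσ, Matrix.add_apply, Matrix.one_apply, Matrix.single_apply]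
      split_ifs
      · linear_combination h2
      · ring
      · ring
      · ring
    rw [map_mul, map_mul, map_inv, ht'] at h3
    have h4 : t * (h⁻¹ * h') = (h⁻¹ * h') * t := by
      have h5 : h' * t * h'⁻¹ = h * t * h⁻¹ := h3
      calc t * (h⁻¹ * h') = h⁻¹ * (h * t * h⁻¹) * h' := by group
        _ = h⁻¹ * (h' * t * h'⁻¹) * h' := by rw [h5]
        _ = (h⁻¹ * h') * t := by group
    have h5 := congrArg (fun g : GL (Fin 3) F => (g : Matrix (Fin 3) (Fin 3) F)) h4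
    simp only [Units.val_mul t, Units.val_mul _ t] at h5
    have h6 : (t : Matrix (Fin 3) (Fin 3) F) = 1 + Matrix.single i j (1 : F) := rfl
    rw [h6, add_mul, mul_add, one_mul, mul_one] at h5
    exact add_left_cancel h5
  obtain ⟨μ, hμ⟩ := Cfsg.Agent.H905.exists_scalar_of_commute hcomm
  have hh' : (h' : Matrix (Fin 3) (Fin 3) F) = μ • (h : Matrix (Fin 3) (Fin 3) F) := by
    have h3 : h' = h * (h⁻¹ * h') := by group
    rw [h3, Units.val_mul, hμ, Matrix.mul_smul, mul_one]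
  have hdet : (h' : Matrix (Fin 3) (Fin 3) F).det = (h : Matrix (Fin 3) (Fin 3) F).det ^ 2 := by
    show ((h : Matrix (Fin 3) (Fin 3) F).map σ).det = _
    have h7 := RingHom.map_det σ (h : Matrix (Fin 3) (Fin 3) F)
    rw [hσ] at h7
    exact h7.symm
  have hd0 : (h : Matrix (Fin 3) (Fin 3) F).det ≠ 0 := (Matrix.isUnits_det_units h).ne_zero
  have hμ0 : μ ≠ 0 := by
    rintro rfl
    rw [hh', zero_smul, Matrix.det_zero] at hdet
    exact pow_ne_zero 2 hd0 hdet.symm
  have hμ3 : μ ^ 3 = 1 := by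
    have h8 := hc μ
    have h9 : μ * (μ ^ 3 - 1) = 0 := by linear_combination h8
    exact sub_eq_zero.1 ((mul_eq_zero.1 h9).resolve_left hμ0)
  rw [← hdet, hh', Matrix.det_smul, Fintype.card_fin, hμ3, one_mul]

theorem two_eq_zero_of_four [Fintype F] (h4 : Fintype.card F = 4) : (2 : F) = 0 := by
  have h1 := FiniteField.cast_card_eq_zero F
  rw [h4] at h1
  have h3 : (2 : F) * 2 = 0 := by
    push_cast at h1
    linear_combination h1
  rcases mul_eq_zero.1 h3 with h | h <;> exact h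

theorem exists_sq_ne [Fintype F] (h3 : 3 ≤ Fintype.card F) : ∃ x : F, x ^ 2 ≠ x := by
  classical
  by_contra hcon
  push Not at hcon
  have h1 : (Finset.univ : Finset F) ⊆ {0, 1} := by
    intro x _
    have h3 : x * (x - 1) = 0 := by linear_combination hcon x
    rcases mul_eq_zero.1 h3 with h | h
    · simp [h]
    · simp [sub_eq_zero.1 h]
  have h4 := Finset.card_le_card h1
  rw [Finset.card_univ] at h4
  have h6 := Finset.card_le_two (a := (0 : F)) (b := 1)
  omega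

theorem x1E_trace (h2 : (2 : F) = 0) {w : F} (hw : w ^ 2 ≠ w) :
    (x1E w : Matrix (Fin 3) (Fin 3) F).trace ^ 2 ≠ (((x1E w)⁻¹ : SL3 F) : Matrix (Fin 3) (Fin 3) F).trace := by
  rw [trace_inv, Matrix.trace_fin_three]
  simp only [x1E]
  simp
  intro h
  apply hw
  linear_combination h - w * h2

theorem x2E_trace (h2 : (2 : F) = 0) {w : F} (hw : w ^ 2 ≠ w) :
    (x2E w : Matrix (Fin 3) (Fin 3) F).trace ^ 2 ≠ (((x2E w)⁻¹ : SL3 F) : Matrix (Fin 3) (Fin 3) F).trace := by
  rw [trace_inv, Matrix.trace_fin_three]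
  simp only [x2E]
  simp
  intro h
  apply hw
  linear_combination h - w * h2

theorem cE_trace {w : F} (hw : w ≠ 0) :
    (cE w hw : Matrix (Fin 3) (Fin 3) F).trace ^ 2 ≠ (((cE w hw)⁻¹ : SL3 F) : Matrix (Fin 3) (Fin 3) F).trace := by
  rw [trace_inv, Matrix.trace_fin_three]
  simp [cE]

theorem sep_four [Fintype F] (hyp : Hyp74 F) (h4 : Fintype.card F = 4) : Sep 5 (SL3 F) := by
  have hc : ∀ x : F, x ^ 4 = x := by
    intro x
    rw [← h4]
    exact FiniteField.pow_card x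
  have h2 := two_eq_zero_of_four h4
  have hw := exists_sq_ne (F := F) (by omega)
  have hp : Fact (Nat.Prime 2) := ⟨Nat.prime_two⟩
  have hch : CharP F 2 := CharTwo.of_one_ne_zero_of_two_eq_zero one_ne_zero h2
  obtain ⟨F₀, r, hr, hcard⟩ := exists_prime_index (F := F) (p := 2) hw
  have hF₀ : Nat.card F₀ = 2 := by
    have h5 : 2 ≤ Nat.card F₀ := Finite.one_lt_card
    by_contra hne
    have h6 : 3 ≤ Nat.card F₀ := by omega
    have h7 : 3 ^ 2 ≤ Nat.card F₀ ^ r :=
      (Nat.pow_le_pow_left h6 2).trans (Nat.pow_le_pow_right (by omega) hr.two_le)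
    omega
  have h0 : ∀ x ∈ F₀, x ^ 2 = x := by
    intro x hx
    have : Fintype F₀ := Fintype.ofFinite F₀
    have h5 := FiniteField.pow_card (⟨x, hx⟩ : F₀)
    rw [← Nat.card_eq_fintype_card, hF₀] at h5
    exact congrArg Subtype.val h5
  obtain ⟨σ, hσ⟩ := Hf_unitary hc h2 hw
  obtain ⟨w, hw⟩ := hw
  have hw0 : w ≠ 0 := by
    rintro rfl
    exact hw (by ring)
  have cP1 := coatom_of_max (hyp.1 (W1 F) W1_ne_bot W1_ne_top)
  have cP2 := coatom_of_max (hyp.1 (W2 F) W2_ne_bot W2_ne_top)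
  have cU := coatom_of_max (hyp.2.2.2.2.2.2 σ (Hf F) hσ)
  have cX := coatom_of_max (hyp.2.2.2.1 F₀ r 1 hr hcard)
  have cY := coatom_of_max (hyp.2.2.2.1 F₀ r (dG w hw0) hr hcard)
  have hXY : ∀ g : SL3 F, Subgroup.map (MulAut.conj g).toMonoidHom (sub (subfieldSubgroup F₀ 1)) ≠
      sub (subfieldSubgroup F₀ (dG w hw0)) := by
    intro g he
    have h5 : ∀ (i j : Fin 3) (hij : i ≠ j),
        ((dG w hw0)⁻¹ * toGL g) * toGL (Matrix.SpecialLinearGroup.transvection hij 1 : SL3 F) *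
          ((dG w hw0)⁻¹ * toGL g)⁻¹ ∈ subfieldSubgroup F₀ 1 := by
      intro i j hij
      rw [← mem_subfield_conj (P := dG w hw0)]
      have h6 : g * (Matrix.SpecialLinearGroup.transvection hij 1 : SL3 F) * g⁻¹ ∈ sub (subfieldSubgroup F₀ (dG w hw0)) := by
        rw [← he, mem_map_conj]
        have : g⁻¹ * (g * (Matrix.SpecialLinearGroup.transvection hij 1 : SL3 F) * g⁻¹) * g =
          Matrix.SpecialLinearGroup.transvection hij 1 := by group
        rw [this]
        exact tv_mem_subfield F₀ hij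
      rw [mem_sub, map_mul, map_mul, map_inv] at h6
      convert h6 using 1
      group
    have h6 := det_of_norm hc h2 h0 h5
    have h7 : (((dG w hw0)⁻¹ * toGL g : GL (Fin 3) F) : Matrix (Fin 3) (Fin 3) F).det = w⁻¹ := by
      rw [Units.val_mul, Matrix.det_mul]
      have h8 : ((toGL g : GL (Fin 3) F) : Matrix (Fin 3) (Fin 3) F).det = 1 := g.2
      rw [h8, mul_one]
      show (!![w⁻¹, 0, 0; 0, 1, 0; 0, 0, 1] : Matrix (Fin 3) (Fin 3) F).det = _
      simp [Matrix.det_fin_three]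
    rw [h7] at h6
    apply hw
    have h9 : w * w⁻¹ = 1 := mul_inv_cancel₀ hw0
    calc w ^ 2 = w ^ 2 * (w * w⁻¹) := by rw [h9, mul_one]
      _ = w ^ 3 * w⁻¹ := by ring
      _ = w ^ 3 * w⁻¹ ^ 2 := by rw [h6]
      _ = w * (w * w⁻¹) ^ 2 := by ring
      _ = w := by rw [h9]; ring
  have irr : ∀ P : GL (Fin 3) F, ∀ W : Submodule F (Fin 3 → F), Stable (sub (subfieldSubgroup F₀ P)) W →
    W = ⊥ ∨ W = ⊤ := fun P W h => irr_conj P h
  refine sep_five cP1.1 cP2.1 cU.1 cX.1 cY.1 ?_ ?_ ?_ ?_ ?_ ?_ ?_ ?_ ?_ ?_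
  · exact apart_of_ne cP1 cP2 free_W2_W1.ne
  · exact apart_of_ne cP1 cU (free_unit hc h2 (x1E_mem w) (x1E_trace h2 hw)).ne'
  · exact apart_of_ne cP1 cX (free_of_irr (irr _) W1_ne_bot W1_ne_top).ne
  · exact apart_of_ne cP1 cY (free_of_irr (irr _) W1_ne_bot W1_ne_top).ne
  · exact apart_of_ne cP2 cU (free_unit hc h2 (x2E_mem w) (x2E_trace h2 hw)).ne'
  · exact apart_of_ne cP2 cX (free_of_irr (irr _) W2_ne_bot W2_ne_top).ne
  · exact apart_of_ne cP2 cY (free_of_irr (irr _) W2_ne_bot W2_ne_top).ne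
  · exact apart_of_ne cU cX (free_unit hc h2 (cE_one_mem F₀) (cE_trace _)).ne
  · refine apart_of_ne cU cY (free_unit hc h2 (x := cE w hw0) ?_ (cE_trace _)).ne
    rw [cE_eq]
    exact cj_mem (cE_one_mem F₀)
  · exact apart_of_ne cX cY hXY

end Cfsg.Agent.H896.L3
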