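import Cfsg.Agent.H896.L3ThreeB

/-!
# `PSL₃(q)` for S5906, S5907 (task 625, helper896): the rows, given the statements of S5774, S5775, S5776

`psl3_three h74 h75 h76 hF`, `psl3_five h74 hF` with `h74 = Cfsg.Agent.S5774.result`,
`h75 = fun H hH => Cfsg.Agent.S5775.result H hH`, `h76 = fun H hH hS => Cfsg.Agent.S5776.result H hH hS`.
-/

set_option autoImplicit false

namespace Cfsg.Agent.H896.L3

open Cfsg.Agent.H940.MaxCls

/-- the statement of S5776 for one field -/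
def Stmt76 (F : Type*) [Field F] [Fintype F] : Prop :=
  ∀ (H : Subgroup (Matrix.GeneralLinearGroup (Fin 3) F)), Cfsg.Geo.IsMaximalIn (Cfsg.Geo.specialLinear (Fin 3) F) H →
    Cfsg.Geo.InLinearResidualClass H →
    ∃ (P : Subgroup (Matrix.GeneralLinearGroup (Fin 3) F)) (p : ℕ), Cfsg.Geo.IsResidualCore H P ∧ p.Prime ∧ CharP F p ∧
    ((Nonempty ((P ⧸ (Cfsg.Geo.scalars (Fin 3) F).subgroupOf P) ≃* Matrix.ProjectiveSpecialLinearGroup (Fin 3) (ZMod 2)) ∧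
        Fintype.card F = p ∧ p ≠ 2 ∧ (p % 7 = 1 ∨ p % 7 = 2 ∨ p % 7 = 4)) ∨
     (Nonempty ((P ⧸ (Cfsg.Geo.scalars (Fin 3) F).subgroupOf P) ≃* alternatingGroup (Fin 6)) ∧
        ((Fintype.card F = p ∧ (p % 15 = 1 ∨ p % 15 = 4)) ∨ (Fintype.card F = p ^ 2 ∧ p ≠ 3 ∧ (p % 5 = 2 ∨ p % 5 = 3)))))

theorem hyp76_of {F : Type*} [Field F] [Fintype F] (h : Stmt76 F) : Hyp76 F := by
  intro H hH hS h3
  obtain ⟨P, p, -, hp, -, h1⟩ := h H hH hS
  rcases h1 with ⟨-, hc, -, h7⟩ | ⟨-, ⟨hc, h15⟩ | ⟨hc, -, -⟩⟩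
  · omega
  · omega
  · have h2 := hp.two_le
    have : 2 ^ 2 ≤ p ^ 2 := Nat.pow_le_pow_left h2 2
    omega

theorem psl3_three {F : Type} [Field F] [Fintype F] (h74 : Hyp74 F) (h75 : Hyp75 F) (h76 : Stmt76 F)
    (hF : Fintype.card F = 3) : Cls 4 (Matrix.ProjectiveSpecialLinearGroup (Fin 3) F) :=
  psl_of_cls (cls_three h74 h75 (hyp76_of h76) hF)

theorem psl3_five {F : Type} [Field F] [Fintype F] (h74 : Hyp74 F) (hF : 4 ≤ Fintype.card F) :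
    Sep 5 (Matrix.ProjectiveSpecialLinearGroup (Fin 3) F) :=
  psl_of_sep (sep_all h74 hF)

end Cfsg.Agent.H896.L3
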