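import Cfsg.Agent.H896.L3FourB
import Cfsg.Agent.H954.FieldSub
import Cfsg.Agent.ClassicalGeometry.DiagNormal

/-!
# `PSL₃(3)` for S5906 (task 625, helper896): uniqueness of the classes of maximal subgroups
-/

set_option autoImplicit false
set_option linter.unusedSectionVars false

namespace Cfsg.Agent.H896.L3

open Matrix Cfsg Cfsg.Geo
open Matrix.SpecialLinearGroup (toGL)
open Cfsg.Agent.H940.MaxCls

variable {F : Type*} [Field F]

theorem conj_sub {X X' : Subgroup (GL (Fin 3) F)} {g : SL3 F}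
    (h : ∀ x : GL (Fin 3) F, x ∈ X ↔ toGL g * x * (toGL g)⁻¹ ∈ X') :
    Subgroup.map (MulAut.conj g).toMonoidHom (sub X) = sub X' := by
  ext x
  rw [mem_map_conj, mem_sub, mem_sub, h, map_mul, map_mul, map_inv]
  have : toGL g * ((toGL g)⁻¹ * toGL x * toGL g) * (toGL g)⁻¹ = toGL x := by group
  rw [this]

/-- over the field with three elements conjugacy in `GL₃` is conjugacy in `SL₃` -/
theorem exists_SL [Fintype F] (h3 : Fintype.card F = 3) (g : GL (Fin 3) F) :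
    ∃ s : SL3 F, ∀ x : GL (Fin 3) F, toGL s * x * (toGL s)⁻¹ = g * x * g⁻¹ := by
  have hx3 : ∀ x : F, x ^ 3 = x := by
    intro x
    rw [← h3]
    exact FiniteField.pow_card x
  have hd0 : (g : Matrix (Fin 3) (Fin 3) F).det ≠ 0 := (Matrix.isUnits_det_units g).ne_zero
  have hd : (g : Matrix (Fin 3) (Fin 3) F).det = 1 ∨ (g : Matrix (Fin 3) (Fin 3) F).det = -1 := by
    have h := hx3 (g : Matrix (Fin 3) (Fin 3) F).det
    generalize (g : Matrix (Fin 3) (Fin 3) F).det = d at h hd0 ⊢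
    have h4 : d * ((d - 1) * (d + 1)) = 0 := by linear_combination h
    rcases mul_eq_zero.1 ((mul_eq_zero.1 h4).resolve_left hd0) with h5 | h5
    · exact Or.inl (sub_eq_zero.1 h5)
    · exact Or.inr (eq_neg_of_add_eq_zero_left h5)
  rcases hd with hd | hd
  · refine ⟨⟨(g : Matrix (Fin 3) (Fin 3) F), hd⟩, fun x => ?_⟩
    have : toGL (⟨(g : Matrix (Fin 3) (Fin 3) F), hd⟩ : SL3 F) = g := Units.ext rfl
    rw [this]
  · have hd' : (-(g : Matrix (Fin 3) (Fin 3) F)).det = 1 := by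
      rw [Matrix.det_neg, hd, Fintype.card_fin]
      ring
    refine ⟨⟨-(g : Matrix (Fin 3) (Fin 3) F), hd'⟩, fun x => ?_⟩
    have : toGL (⟨-(g : Matrix (Fin 3) (Fin 3) F), hd'⟩ : SL3 F) = -g := Units.ext rfl
    rw [this, neg_mul, inv_neg, neg_mul_neg]

theorem exists_conj [Fintype F] (h3 : Fintype.card F = 3) {X X' : Subgroup (GL (Fin 3) F)} (g : GL (Fin 3) F)
    (h : ∀ x : GL (Fin 3) F, x ∈ X ↔ g * x * g⁻¹ ∈ X') :
    ∃ s : SL3 F, Subgroup.map (MulAut.conj s).toMonoidHom (sub X) = sub X' := by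
  obtain ⟨s, hs⟩ := exists_SL h3 g
  refine ⟨s, conj_sub fun x => ?_⟩
  rw [hs, h]

/-! ### subspaces -/

theorem glOf_inv_mulVec (e : (Fin 3 → F) ≃ₗ[F] (Fin 3 → F)) (v : Fin 3 → F) :
    (((Cfsg.Agent.H905.glOf e)⁻¹ : GL (Fin 3) F) : Matrix (Fin 3) (Fin 3) F) *ᵥ v = e.symm v := by
  apply e.injective
  rw [LinearEquiv.apply_symm_apply, ← Cfsg.Agent.H905.glOf_mulVec, Matrix.mulVec_mulVec, ← Units.val_mul,
    mul_inv_cancel, Units.val_one, Matrix.one_mulVec]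

theorem conj_stab [Fintype F] (h3 : Fintype.card F = 3) {W W' : Submodule F (Fin 3 → F)}
    (h : Module.finrank F W = Module.finrank F W') :
    ∃ s : SL3 F, Subgroup.map (MulAut.conj s).toMonoidHom (sub (subspaceStabilizer W)) = sub (subspaceStabilizer W') := by
  obtain ⟨e, he⟩ := Submodule.exists_linearEquiv_restrict_eq (LinearEquiv.ofFinrankEq W W' h)
  have he' : ∀ w : W, e w = (LinearEquiv.ofFinrankEq W W' h w : Fin 3 → F) := fun w => (he w).symm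
  have hmem : ∀ v, v ∈ W ↔ e v ∈ W' := by
    intro v
    constructor
    · intro hv
      rw [he' ⟨v, hv⟩]
      exact (LinearEquiv.ofFinrankEq W W' h ⟨v, hv⟩).2
    · intro hv
      obtain ⟨w, hw⟩ := (LinearEquiv.ofFinrankEq W W' h).surjective ⟨_, hv⟩
      have h1 : e w = e v := by rw [he' w, hw]
      rw [← e.injective h1]
      exact w.2
  refine exists_conj h3 (Cfsg.Agent.H905.glOf e) fun x => ?_
  show (∀ v, v ∈ W ↔ (x : Matrix (Fin 3) (Fin 3) F) *ᵥ v ∈ W) ↔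
    (∀ v, v ∈ W' ↔ ((Cfsg.Agent.H905.glOf e * x * (Cfsg.Agent.H905.glOf e)⁻¹ : GL (Fin 3) F) :
      Matrix (Fin 3) (Fin 3) F) *ᵥ v ∈ W')
  have key : ∀ v, ((Cfsg.Agent.H905.glOf e * x * (Cfsg.Agent.H905.glOf e)⁻¹ : GL (Fin 3) F) :
      Matrix (Fin 3) (Fin 3) F) *ᵥ v = e ((x : Matrix (Fin 3) (Fin 3) F) *ᵥ (e.symm v)) := by
    intro v
    rw [Units.val_mul, Units.val_mul, ← Matrix.mulVec_mulVec, ← Matrix.mulVec_mulVec, glOf_inv_mulVec,
      Cfsg.Agent.H905.glOf_mulVec]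
  constructor
  · intro hx v
    rw [key, ← hmem, ← hx, hmem, LinearEquiv.apply_symm_apply]
  · intro hx v
    have h1 := hx (e v)
    rw [key, LinearEquiv.symm_apply_apply, ← hmem, ← hmem] at h1
    exact h1

/-! ### cubic fields -/

theorem conj_norm [Fintype F] (h3 : Fintype.card F = 3) {K K' : Subalgebra F (Matrix (Fin 3) (Fin 3) F)}
    (hK : IsFieldSubalgebra 3 K) (hK' : IsFieldSubalgebra 3 K') :
    ∃ s : SL3 F, Subgroup.map (MulAut.conj s).toMonoidHom (sub (subalgebraNormalizer K)) =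
      sub (subalgebraNormalizer K') := by
  obtain ⟨p, hp⟩ := CharP.exists F
  have hpp : Fact p.Prime := ⟨CharP.char_is_prime F p⟩
  let _ : Field K := (isField_of hK).toField
  let _ : Field K' := (isField_of hK').toField
  have : FiniteDimensional F K := Module.finite_of_finrank_pos (by rw [hK.finrank_eq]; norm_num)
  let ε : K ≃ₐ[F] K' := (FiniteField.algEquivExtension F p 3 K hK.finrank_eq).trans
    (FiniteField.algEquivExtension F p 3 K' hK'.finrank_eq).symm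
  let φ : K →ₐ[F] Module.End F (Fin 3 → F) :=
    ((Matrix.toLinAlgEquiv' (R := F) (n := Fin 3)).toAlgHom).comp K.val
  let ψ : K →ₐ[F] Module.End F (Fin 3 → F) :=
    ((Matrix.toLinAlgEquiv' (R := F) (n := Fin 3)).toAlgHom).comp (K'.val.comp ε.toAlgHom)
  obtain ⟨e, he⟩ := Cfsg.Agent.H954.FieldSub.exists_equiv_comm φ ψ
  have he' : ∀ (k : K) (v : Fin 3 → F), e ((k : Matrix (Fin 3) (Fin 3) F) *ᵥ v) =
      ((ε k : K') : Matrix (Fin 3) (Fin 3) F) *ᵥ (e v) := fun k v => he k v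
  set g := Cfsg.Agent.H905.glOf e with hg
  have hconj : ∀ k : K, (g : Matrix (Fin 3) (Fin 3) F) * k * ((g⁻¹ : GL (Fin 3) F) : Matrix (Fin 3) (Fin 3) F) =
      ((ε k : K') : Matrix (Fin 3) (Fin 3) F) := by
    intro k
    apply Matrix.ext_of_mulVec_single
    intro i
    rw [← Matrix.mulVec_mulVec, ← Matrix.mulVec_mulVec, hg, glOf_inv_mulVec, Cfsg.Agent.H905.glOf_mulVec, he',
      LinearEquiv.apply_symm_apply]
  have hgi : ((g⁻¹ : GL (Fin 3) F) : Matrix (Fin 3) (Fin 3) F) * (g : Matrix (Fin 3) (Fin 3) F) = 1 := by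
    rw [← Units.val_mul, inv_mul_cancel, Units.val_one]
  have hinj : ∀ a b : Matrix (Fin 3) (Fin 3) F, (g : Matrix (Fin 3) (Fin 3) F) * a *
      ((g⁻¹ : GL (Fin 3) F) : Matrix (Fin 3) (Fin 3) F) = (g : Matrix (Fin 3) (Fin 3) F) * b *
      ((g⁻¹ : GL (Fin 3) F) : Matrix (Fin 3) (Fin 3) F) → a = b := by
    intro a b hab
    have h1 := congrArg (fun M => ((g⁻¹ : GL (Fin 3) F) : Matrix (Fin 3) (Fin 3) F) * M *
      (g : Matrix (Fin 3) (Fin 3) F)) hab
    simp only [mul_assoc, hgi, mul_one] at h1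
    rwa [← mul_assoc, hgi, one_mul, ← mul_assoc, hgi, one_mul] at h1
  have hmem : ∀ k : Matrix (Fin 3) (Fin 3) F, k ∈ K ↔ (g : Matrix (Fin 3) (Fin 3) F) * k *
      ((g⁻¹ : GL (Fin 3) F) : Matrix (Fin 3) (Fin 3) F) ∈ K' := by
    intro k
    constructor
    · intro hk
      rw [hconj ⟨k, hk⟩]
      exact (ε ⟨k, hk⟩).2
    · intro hk
      obtain ⟨k', hk'⟩ := ε.surjective ⟨_, hk⟩
      have h1 := hconj k'
      rw [hk'] at h1
      rw [← hinj _ _ h1]
      exact k'.2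
  refine exists_conj h3 g fun x => ?_
  show (∀ k, k ∈ K ↔ (x : Matrix (Fin 3) (Fin 3) F) * k * ((x⁻¹ : GL (Fin 3) F) : Matrix (Fin 3) (Fin 3) F) ∈ K) ↔
    (∀ k, k ∈ K' ↔ ((g * x * g⁻¹ : GL (Fin 3) F) : Matrix (Fin 3) (Fin 3) F) * k *
      (((g * x * g⁻¹)⁻¹ : GL (Fin 3) F) : Matrix (Fin 3) (Fin 3) F) ∈ K')
  have key : ∀ k, ((g * x * g⁻¹ : GL (Fin 3) F) : Matrix (Fin 3) (Fin 3) F) * ((g : Matrix (Fin 3) (Fin 3) F) * k *
      ((g⁻¹ : GL (Fin 3) F) : Matrix (Fin 3) (Fin 3) F)) *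
      (((g * x * g⁻¹)⁻¹ : GL (Fin 3) F) : Matrix (Fin 3) (Fin 3) F) = (g : Matrix (Fin 3) (Fin 3) F) *
        ((x : Matrix (Fin 3) (Fin 3) F) * k * ((x⁻¹ : GL (Fin 3) F) : Matrix (Fin 3) (Fin 3) F)) *
        ((g⁻¹ : GL (Fin 3) F) : Matrix (Fin 3) (Fin 3) F) := by
    intro k
    have h1 : (g * x * g⁻¹)⁻¹ = g * x⁻¹ * g⁻¹ := by group
    rw [h1]
    simp only [Units.val_mul, mul_assoc]
    have h2 : ∀ a : Matrix (Fin 3) (Fin 3) F, ((g⁻¹ : GL (Fin 3) F) : Matrix (Fin 3) (Fin 3) F) *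
        ((g : Matrix (Fin 3) (Fin 3) F) * a) = a := fun a => by rw [← mul_assoc, hgi, one_mul]
    rw [h2, h2]
  constructor
  · intro hx k
    obtain ⟨k0, rfl⟩ : ∃ k0, (g : Matrix (Fin 3) (Fin 3) F) * k0 *
        ((g⁻¹ : GL (Fin 3) F) : Matrix (Fin 3) (Fin 3) F) = k := by
      refine ⟨((g⁻¹ : GL (Fin 3) F) : Matrix (Fin 3) (Fin 3) F) * k * (g : Matrix (Fin 3) (Fin 3) F), ?_⟩
      have hgi' : (g : Matrix (Fin 3) (Fin 3) F) * ((g⁻¹ : GL (Fin 3) F) : Matrix (Fin 3) (Fin 3) F) = 1 := by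
        rw [← Units.val_mul, mul_inv_cancel, Units.val_one]
      calc _ = ((g : Matrix (Fin 3) (Fin 3) F) * ((g⁻¹ : GL (Fin 3) F) : Matrix (Fin 3) (Fin 3) F)) * k *
            ((g : Matrix (Fin 3) (Fin 3) F) * ((g⁻¹ : GL (Fin 3) F) : Matrix (Fin 3) (Fin 3) F)) := by
            simp only [mul_assoc]
        _ = k := by rw [hgi', one_mul, mul_one]
    rw [key, ← hmem, ← hmem]
    exact hx k0
  · intro hx k
    have h1 := hx ((g : Matrix (Fin 3) (Fin 3) F) * k * ((g⁻¹ : GL (Fin 3) F) : Matrix (Fin 3) (Fin 3) F))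
    rw [key, ← hmem, ← hmem] at h1
    exact h1

/-! ### quadratic forms -/

/-- the bundled quadratic form -/
def bundleQ (Q : (Fin 3 → F) → F) (hQ : IsNondegenerateQuadraticForm Q) : QuadraticForm F (Fin 3 → F) where
  toFun := Q
  toFun_smul a x := by rw [hQ.smul, smul_eq_mul, _root_.sq]
  exists_companion' := ⟨LinearMap.mk₂ F (QuadraticMap.polar Q) hQ.polar_bilinear.add_left
    (fun c x y => by rw [hQ.polar_bilinear.smul_left, smul_eq_mul])
    (fun x y z => hQ.polar_bilinear.add_right x y z)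
    (fun c x y => by rw [hQ.polar_bilinear.smul_right, smul_eq_mul]), fun x y => by
      rw [LinearMap.mk₂_apply, QuadraticMap.polar]; ring⟩

theorem bundleQ_nondegenerate (Q : (Fin 3 → F) → F) (hQ : IsNondegenerateQuadraticForm Q) :
    (QuadraticMap.polarBilin (bundleQ Q hQ)).Nondegenerate := by
  constructor
  · intro x hx
    by_contra hne
    obtain ⟨-, y, hy⟩ := hQ.nondegenerate x hne
    exact hy (hx y)
  · intro x hx
    by_contra hne
    obtain ⟨⟨y, hy⟩, -⟩ := hQ.nondegenerate x hne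
    exact hy (hx y)

theorem conj_quad [Fintype F] (h3 : Fintype.card F = 3) (h2 : (2 : F) ≠ 0) {Q Q' : (Fin 3 → F) → F}
    (hQ : IsNondegenerateQuadraticForm Q) (hQ' : IsNondegenerateQuadraticForm Q') :
    ∃ s : SL3 F, Subgroup.map (MulAut.conj s).toMonoidHom (sub (quadSimilarityGroup Q)) =
      sub (quadSimilarityGroup Q') := by
  obtain ⟨e, c, hc, he⟩ := Cfsg.Agent.ClassicalGeometry.DiagNormal.exists_similar h2 (n := 3) (by decide)
    (bundleQ Q hQ) (bundleQ Q' hQ') (bundleQ_nondegenerate Q hQ) (bundleQ_nondegenerate Q' hQ')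
  have he' : ∀ v, Q' (e v) = c * Q v := he
  refine exists_conj h3 (Cfsg.Agent.H905.glOf e) fun x => ?_
  show (∃ d : Fˣ, ∀ v, Q ((x : Matrix (Fin 3) (Fin 3) F) *ᵥ v) = (d : F) * Q v) ↔
    (∃ d : Fˣ, ∀ v, Q' (((Cfsg.Agent.H905.glOf e * x * (Cfsg.Agent.H905.glOf e)⁻¹ : GL (Fin 3) F) :
      Matrix (Fin 3) (Fin 3) F) *ᵥ v) = (d : F) * Q' v)
  have key : ∀ v, ((Cfsg.Agent.H905.glOf e * x * (Cfsg.Agent.H905.glOf e)⁻¹ : GL (Fin 3) F) :
      Matrix (Fin 3) (Fin 3) F) *ᵥ v = e ((x : Matrix (Fin 3) (Fin 3) F) *ᵥ (e.symm v)) := by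
    intro v
    rw [Units.val_mul, Units.val_mul, ← Matrix.mulVec_mulVec, ← Matrix.mulVec_mulVec, glOf_inv_mulVec,
      Cfsg.Agent.H905.glOf_mulVec]
  constructor
  · rintro ⟨d, hd⟩
    refine ⟨d, fun v => ?_⟩
    rw [key, he', hd]
    have h1 := he' (e.symm v)
    rw [LinearEquiv.apply_symm_apply] at h1
    rw [h1]
    ring
  · rintro ⟨d, hd⟩
    refine ⟨d, fun v => ?_⟩
    have h1 := hd (e v)
    rw [key, LinearEquiv.symm_apply_apply, he', he'] at h1
    apply mul_left_cancel₀ hc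
    rw [h1]
    ring

end Cfsg.Agent.H896.L3
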