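import Cfsg.Agent.H896.L3Three

/-!
# `PSL₃(3)` for S5906 (task 625, helper896): exactly four classes
-/

set_option autoImplicit false
set_option linter.unusedSectionVars false

namespace Cfsg.Agent.H896.L3

open Matrix Cfsg Cfsg.Geo
open Matrix.SpecialLinearGroup (toGL)
open Cfsg.Agent.H940.MaxCls

variable {F : Type*} [Field F]

/-- the statement of S5775 for one field -/
def Hyp75 (F : Type*) [Field F] [Fintype F] : Prop :=
  ∀ (H : Subgroup (Matrix.GeneralLinearGroup (Fin 3) F)), Cfsg.Geo.IsMaximalIn (Cfsg.Geo.specialLinear (Fin 3) F) H →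
    (∃ W : Submodule F (Fin 3 → F), W ≠ ⊥ ∧ W ≠ ⊤ ∧ H = Cfsg.Geo.subspaceStabilizer W ⊓ Cfsg.Geo.specialLinear (Fin 3) F) ∨
    (5 ≤ Fintype.card F ∧ ∃ D : Fin 3 → Submodule F (Fin 3 → F), Cfsg.Geo.IsMDecomposition 1 D ∧ H = Cfsg.Geo.decompositionStabilizer D ⊓ Cfsg.Geo.specialLinear (Fin 3) F) ∨
    (Fintype.card F ≠ 4 ∧ ∃ K : Subalgebra F (Matrix (Fin 3) (Fin 3) F), Cfsg.Geo.IsFieldSubalgebra 3 K ∧ H = Cfsg.Geo.subalgebraNormalizer K ⊓ Cfsg.Geo.specialLinear (Fin 3) F) ∨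
    (∃ (F₀ : Subfield F) (r : ℕ) (P : Matrix.GeneralLinearGroup (Fin 3) F), r.Prime ∧ Fintype.card F = Nat.card F₀ ^ r ∧ H = Cfsg.Geo.subfieldSubgroup F₀ P ⊓ Cfsg.Geo.specialLinear (Fin 3) F) ∨
    (∃ (p : ℕ) (R : Subgroup (Matrix.GeneralLinearGroup (Fin 3) F)), p.Prime ∧ Fintype.card F = p ∧ p % 3 = 1 ∧ Cfsg.Geo.IsLinearSymplecticTypeData 3 R ∧ H = Cfsg.Geo.subgroupNormalizer R ⊓ Cfsg.Geo.specialLinear (Fin 3) F) ∨
    (Odd (Fintype.card F) ∧ ∃ Q : (Fin 3 → F) → F, Cfsg.Geo.IsNondegenerateQuadraticForm Q ∧ H = Cfsg.Geo.quadSimilarityGroup Q ⊓ Cfsg.Geo.specialLinear (Fin 3) F) ∨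
    (∃ (σ : F ≃+* F) (f : (Fin 3 → F) → (Fin 3 → F) → F), Cfsg.Geo.IsUnitaryForm σ f ∧ H = Cfsg.Geo.similarityGroup f ⊓ Cfsg.Geo.specialLinear (Fin 3) F) ∨
    Cfsg.Geo.InLinearResidualClass H

/-- what S5776 says about the cardinality of the field -/
def Hyp76 (F : Type*) [Field F] [Fintype F] : Prop :=
  ∀ (H : Subgroup (Matrix.GeneralLinearGroup (Fin 3) F)), Cfsg.Geo.IsMaximalIn (Cfsg.Geo.specialLinear (Fin 3) F) H →
    Cfsg.Geo.InLinearResidualClass H → Fintype.card F ≠ 3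

theorem finrank_W : Module.finrank F (W1 F) = 1 ∧ Module.finrank F (W2 F) = 2 := by
  have h1 := Submodule.finrank_lt_finrank_of_lt (W1_lt_W2 (F := F))
  have h2 : Module.finrank F (W2 F) < Module.finrank F (Fin 3 → F) := Submodule.finrank_lt W2_ne_top
  rw [Module.finrank_fintype_fun_eq_card, Fintype.card_fin] at h2
  have h3 : Module.finrank F (W1 F) ≠ 0 := fun h => W1_ne_bot (Submodule.finrank_eq_zero.1 h)
  omega

theorem cls_three [Fintype F] (hyp : Hyp74 F) (hyp5 : Hyp75 F) (hyp6 : Hyp76 F) (h3 : Fintype.card F = 3) :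
    Cls 4 (SL3 F) := by
  have h2 : (2 : F) ≠ 0 := by
    intro h
    have h1 := FiniteField.cast_card_eq_zero F
    rw [h3] at h1
    push_cast at h1
    have : (1 : F) = 0 := by linear_combination h1 - h
    exact one_ne_zero this
  have ho : Odd (Fintype.card F) := by rw [h3]; decide
  obtain ⟨K, hK⟩ := exists_cubic (F := F)
  have cP1 := coatom_of_max (hyp.1 (W1 F) W1_ne_bot W1_ne_top)
  have cP2 := coatom_of_max (hyp.1 (W2 F) W2_ne_bot W2_ne_top)
  have cK := coatom_of_max (hyp.2.2.1 (by omega) K hK)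
  have cQ := coatom_of_max (hyp.2.2.2.2.2.1 ho (Qf F) (Qf_nondeg h2))
  have hm0 : (-1 : F) ≠ 0 := neg_ne_zero.2 one_ne_zero
  have hb : Bad (hE (-1 : F) hm0) := hE_bad _ hm0 (by
    intro h
    apply h2
    linear_combination -h)
  let M : Fin 4 → Subgroup (SL3 F) := ![sub (subspaceStabilizer (W1 F)), sub (subspaceStabilizer (W2 F)),
    sub (subalgebraNormalizer K), sub (quadSimilarityGroup (Qf F))]
  have hM : ∀ i, IsCoatom (M i) := by
    intro i
    fin_cases i
    · exact cP1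
    · exact cP2
    · exact cK
    · exact cQ
  refine Cls.of_mem M hM ?_ ?_
  · intro i j hij g
    fin_cases i <;> fin_cases j <;> first | exact absurd hij (by decide) | skip
    · exact free_W2_W1.ne g
    · exact (free_norm hK (hE_mem_W1 (-1) hm0) hb).ne' g
    · exact (free_of_irr (fun W => irr_Q h2) W1_ne_bot W1_ne_top).ne g
    · exact (free_norm hK (hE_mem_W2 (-1) hm0) hb).ne' g
    · exact (free_of_irr (fun W => irr_Q h2) W2_ne_bot W2_ne_top).ne g
    · exact (free_norm hK (hE_mem_Q (-1) hm0) hb).ne g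
  · intro L hL
    rcases hyp5 _ (max_of_coatom hL) with ⟨W, hW0, hW1, h⟩ | ⟨h5, -⟩ | ⟨-, K', hK', h⟩ | ⟨F₀, r, P, hr, hcard, -⟩ |
      ⟨p, R, hp, hcp, hp3, -⟩ | ⟨-, Q, hQ, h⟩ | ⟨σ, f, hf, -⟩ | h
    · have hL' := eq_sub h
      have h4 : Module.finrank F W < 3 := by
        have h5 := Submodule.finrank_lt hW1
        rwa [Module.finrank_fintype_fun_eq_card, Fintype.card_fin] at h5
      have h6 : Module.finrank F W ≠ 0 := fun h => hW0 (Submodule.finrank_eq_zero.1 h)
      have h7 : Module.finrank F W = 1 ∨ Module.finrank F W = 2 := by omega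
      rcases h7 with h7 | h7
      · obtain ⟨s, hs⟩ := conj_stab h3 (W := W1 F) (W' := W) (by rw [finrank_W.1, h7])
        exact ⟨0, s, hs.trans hL'.symm⟩
      · obtain ⟨s, hs⟩ := conj_stab h3 (W := W2 F) (W' := W) (by rw [finrank_W.2, h7])
        exact ⟨1, s, hs.trans hL'.symm⟩
    · omega
    · obtain ⟨s, hs⟩ := conj_norm h3 hK hK'
      exact ⟨2, s, hs.trans (eq_sub h).symm⟩
    · exfalso
      have h5 : 2 ≤ Nat.card F₀ := Finite.one_lt_card
      have h7 : 2 ^ 2 ≤ Nat.card F₀ ^ r :=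
        (Nat.pow_le_pow_left h5 2).trans (Nat.pow_le_pow_right (by omega) hr.two_le)
      omega
    · exfalso
      omega
    · obtain ⟨s, hs⟩ := conj_quad h3 h2 (Qf_nondeg h2) hQ
      exact ⟨3, s, hs.trans (eq_sub h).symm⟩
    · exfalso
      apply hf.ne_refl
      ext x
      have hx : x ^ 3 = x := by
        rw [← h3]
        exact FiniteField.pow_card x
      have h4 : x * ((x - 1) * (x + 1)) = 0 := by linear_combination hx
      rcases mul_eq_zero.1 h4 with h5 | h5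
      · rw [h5, map_zero, map_zero]
      · rcases mul_eq_zero.1 h5 with h6 | h6
        · rw [sub_eq_zero.1 h6, map_one, map_one]
        · rw [eq_neg_of_add_eq_zero_left h6, map_neg, map_one, map_neg, map_one]
    · exact absurd h3 (hyp6 _ (max_of_coatom hL) h)

/-! ### from `SL₃` to `PSL₃` -/

theorem perfect_SL3 : commutator (SL3 F) = ⊤ :=
  Cfsg.Agent.LieClassical.SLGen.commutator_eq_top (by rw [Fintype.card_fin])

theorem psl_of_sep (h : Sep 5 (SL3 F)) : Sep 5 (Matrix.ProjectiveSpecialLinearGroup (Fin 3) F) := by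
  refine Sep.map_surj (f := QuotientGroup.mk' (Subgroup.center (SL3 F))) (QuotientGroup.mk'_surjective _) ?_
    perfect_SL3 h
  rw [QuotientGroup.ker_mk']

theorem psl_of_cls (h : Cls 4 (SL3 F)) : Cls 4 (Matrix.ProjectiveSpecialLinearGroup (Fin 3) F) := by
  refine Cls.map_surj (f := QuotientGroup.mk' (Subgroup.center (SL3 F))) (QuotientGroup.mk'_surjective _) ?_
    perfect_SL3 h
  rw [QuotientGroup.ker_mk']

theorem sep_all [Fintype F] (hyp : Hyp74 F) (h4 : 4 ≤ Fintype.card F) : Sep 5 (SL3 F) := by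
  rcases Nat.lt_or_ge (Fintype.card F) 5 with h | h
  · exact sep_four hyp (by omega)
  · by_cases h2 : (2 : F) = 0
    · exact sep_even hyp h h2
    · refine sep_odd hyp h h2 ?_
      rw [Nat.odd_iff]
      apply FiniteField.odd_card_of_char_ne_two
      intro h5
      apply h2
      have h6 := ringChar.Nat.cast_ringChar (R := F)
      rw [h5] at h6
      exact_mod_cast h6

end Cfsg.Agent.H896.L3
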