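import Cfsg.Agent.H896.Frame

/-!
# Two by two matrices of determinant one: commuting elements, traces (helper896)
-/

set_option autoImplicit false
set_option linter.unusedSectionVars false

namespace Cfsg.Agent.H896

namespace PL

open Matrix

variable {F : Type*} [Field F]

theorem m00 (X Y : Matrix.SpecialLinearGroup (Fin 2) F) :
    (X * Y).1 0 0 = X.1 0 0 * Y.1 0 0 + X.1 0 1 * Y.1 1 0 := by
  rw [Matrix.SpecialLinearGroup.coe_mul, Matrix.mul_apply, Fin.sum_univ_two]

theorem m01 (X Y : Matrix.SpecialLinearGroup (Fin 2) F) :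
    (X * Y).1 0 1 = X.1 0 0 * Y.1 0 1 + X.1 0 1 * Y.1 1 1 := by
  rw [Matrix.SpecialLinearGroup.coe_mul, Matrix.mul_apply, Fin.sum_univ_two]

theorem m10 (X Y : Matrix.SpecialLinearGroup (Fin 2) F) :
    (X * Y).1 1 0 = X.1 1 0 * Y.1 0 0 + X.1 1 1 * Y.1 1 0 := by
  rw [Matrix.SpecialLinearGroup.coe_mul, Matrix.mul_apply, Fin.sum_univ_two]

theorem m11 (X Y : Matrix.SpecialLinearGroup (Fin 2) F) :
    (X * Y).1 1 1 = X.1 1 0 * Y.1 0 1 + X.1 1 1 * Y.1 1 1 := by
  rw [Matrix.SpecialLinearGroup.coe_mul, Matrix.mul_apply, Fin.sum_univ_two]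

theorem i00 (X : Matrix.SpecialLinearGroup (Fin 2) F) : (X⁻¹).1 0 0 = X.1 1 1 := by
  rw [Matrix.SpecialLinearGroup.SL2_inv_expl]; rfl

theorem i01 (X : Matrix.SpecialLinearGroup (Fin 2) F) : (X⁻¹).1 0 1 = -X.1 0 1 := by
  rw [Matrix.SpecialLinearGroup.SL2_inv_expl]; rfl

theorem i10 (X : Matrix.SpecialLinearGroup (Fin 2) F) : (X⁻¹).1 1 0 = -X.1 1 0 := by
  rw [Matrix.SpecialLinearGroup.SL2_inv_expl]; rfl

theorem i11 (X : Matrix.SpecialLinearGroup (Fin 2) F) : (X⁻¹).1 1 1 = X.1 0 0 := by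
  rw [Matrix.SpecialLinearGroup.SL2_inv_expl]; rfl

theorem o00 : (1 : Matrix.SpecialLinearGroup (Fin 2) F).1 0 0 = 1 := by
  show (1 : Matrix (Fin 2) (Fin 2) F) 0 0 = 1
  simp

theorem o01 : (1 : Matrix.SpecialLinearGroup (Fin 2) F).1 0 1 = 0 := by
  show (1 : Matrix (Fin 2) (Fin 2) F) 0 1 = 0
  simp

theorem o10 : (1 : Matrix.SpecialLinearGroup (Fin 2) F).1 1 0 = 0 := by
  show (1 : Matrix (Fin 2) (Fin 2) F) 1 0 = 0
  simp

theorem o11 : (1 : Matrix.SpecialLinearGroup (Fin 2) F).1 1 1 = 1 := by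
  show (1 : Matrix (Fin 2) (Fin 2) F) 1 1 = 1
  simp

theorem dt (X : Matrix.SpecialLinearGroup (Fin 2) F) :
    X.1 0 0 * X.1 1 1 - X.1 0 1 * X.1 1 0 = 1 := by
  rw [← Matrix.det_fin_two]
  exact X.2

theorem ext' {X Y : Matrix.SpecialLinearGroup (Fin 2) F} (h00 : X.1 0 0 = Y.1 0 0)
    (h01 : X.1 0 1 = Y.1 0 1) (h10 : X.1 1 0 = Y.1 1 0) (h11 : X.1 1 1 = Y.1 1 1) : X = Y := by
  apply Subtype.ext
  ext i j
  fin_cases i <;> fin_cases j
  · exact h00
  · exact h01
  · exact h10
  · exact h11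

/-- trace -/
def tr (X : Matrix.SpecialLinearGroup (Fin 2) F) : F := X.1 0 0 + X.1 1 1

theorem mem_center {X : Matrix.SpecialLinearGroup (Fin 2) F} :
    X ∈ Subgroup.center (Matrix.SpecialLinearGroup (Fin 2) F) ↔
      X.1 0 1 = 0 ∧ X.1 1 0 = 0 ∧ X.1 0 0 = X.1 1 1 := by
  rw [Matrix.SpecialLinearGroup.mem_center_iff]
  constructor
  · rintro ⟨r, -, h⟩
    have h' : X.1 = Matrix.scalar (Fin 2) r := h.symm
    rw [h']
    simp
  · rintro ⟨h1, h2, h3⟩
    refine ⟨X.1 0 0, ?_, ?_⟩
    · have := dt X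
      rw [h1, ← h3] at this
      simp only [Fintype.card_fin]
      linear_combination this
    · ext i j
      fin_cases i <;> fin_cases j
      · simp
      · simp
        exact h1.symm
      · simp
        exact h2.symm
      · simp
        exact h3

theorem comm_iff {X Y : Matrix.SpecialLinearGroup (Fin 2) F} : X * Y = Y * X ↔
    X.1 0 1 * Y.1 1 0 = X.1 1 0 * Y.1 0 1 ∧
    Y.1 0 1 * (X.1 0 0 - X.1 1 1) = X.1 0 1 * (Y.1 0 0 - Y.1 1 1) ∧
    X.1 1 0 * (Y.1 0 0 - Y.1 1 1) = Y.1 1 0 * (X.1 0 0 - X.1 1 1) := by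
  constructor
  · intro h
    have h00 : (X * Y).1 0 0 = (Y * X).1 0 0 := by rw [h]
    have h01 : (X * Y).1 0 1 = (Y * X).1 0 1 := by rw [h]
    have h10 : (X * Y).1 1 0 = (Y * X).1 1 0 := by rw [h]
    rw [m00, m00] at h00
    rw [m01, m01] at h01
    rw [m10, m10] at h10
    refine ⟨by linear_combination h00, by linear_combination h01, by linear_combination h10⟩
  · rintro ⟨h1, h2, h3⟩
    apply ext'
    · rw [m00, m00]; linear_combination h1
    · rw [m01, m01]; linear_combination h2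
    · rw [m10, m10]; linear_combination h3
    · rw [m11, m11]; linear_combination -h1

/-- commuting is transitive on elements outside the centre -/
theorem comm_trans {A X Y : Matrix.SpecialLinearGroup (Fin 2) F}
    (hA : A ∉ Subgroup.center (Matrix.SpecialLinearGroup (Fin 2) F)) (hX : A * X = X * A)
    (hY : A * Y = Y * A) : X * Y = Y * X := by
  rw [mem_center] at hA
  rw [comm_iff] at hX hY ⊢
  obtain ⟨x1, x2, x3⟩ := hX
  obtain ⟨y1, y2, y3⟩ := hY
  generalize A.1 0 1 = p at *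
  generalize A.1 1 0 = q at *
  generalize hr : A.1 0 0 - A.1 1 1 = r at *
  generalize X.1 0 1 = p' at *
  generalize X.1 1 0 = q' at *
  generalize X.1 0 0 - X.1 1 1 = r' at *
  generalize Y.1 0 1 = p'' at *
  generalize Y.1 1 0 = q'' at *
  generalize Y.1 0 0 - Y.1 1 1 = r'' at *
  by_cases hp : p = 0
  · by_cases hq : q = 0
    · have hr0 : r ≠ 0 := by
        rw [← hr]
        intro h
        exact hA ⟨hp, hq, sub_eq_zero.1 h⟩
      subst hp hq
      have e1 : p' = 0 := by
        apply mul_right_cancel₀ hr0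
        linear_combination x2
      have e2 : q' = 0 := by
        apply mul_right_cancel₀ hr0
        linear_combination -x3
      have e3 : p'' = 0 := by
        apply mul_right_cancel₀ hr0
        linear_combination y2
      have e4 : q'' = 0 := by
        apply mul_right_cancel₀ hr0
        linear_combination -y3
      subst e1 e2 e3 e4
      simp
    · subst hp
      have e1 : p' = 0 := by
        apply mul_left_cancel₀ hq
        linear_combination -x1
      have e3 : p'' = 0 := by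
        apply mul_left_cancel₀ hq
        linear_combination -y1
      subst e1 e3
      refine ⟨by ring, by ring, ?_⟩
      apply mul_left_cancel₀ hq
      linear_combination q' * y3 - q'' * x3
  · have h2 : p'' * r' = p' * r'' := by
      apply mul_left_cancel₀ hp
      linear_combination p' * y2 - p'' * x2
    refine ⟨?_, h2, ?_⟩
    · apply mul_left_cancel₀ hp
      linear_combination p' * y1 - p'' * x1
    · apply mul_left_cancel₀ hp
      linear_combination r'' * x1 - r' * y1 - q * h2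

theorem tr_conj (X Y : Matrix.SpecialLinearGroup (Fin 2) F) : tr (Y * X * Y⁻¹) = tr X := by
  unfold tr
  rw [m00 (Y * X), m11 (Y * X), m00, m01, m10, m11, i00, i01, i10, i11]
  linear_combination (X.1 0 0 + X.1 1 1) * dt Y

theorem cube {g : Matrix.SpecialLinearGroup (Fin 2) F} (h : tr g * tr g = 1) :
    g * g * g ∈ Subgroup.center (Matrix.SpecialLinearGroup (Fin 2) F) := by
  have hd := dt g
  unfold tr at h
  rw [mem_center, m00 (g * g), m01 (g * g), m10 (g * g), m11 (g * g), m00, m01, m10, m11]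
  refine ⟨?_, ?_, ?_⟩
  · linear_combination g.1 0 1 * h - g.1 0 1 * hd
  · linear_combination g.1 1 0 * h - g.1 1 0 * hd
  · linear_combination (g.1 0 0 - g.1 1 1) * h - (g.1 0 0 - g.1 1 1) * hd

theorem of_cube {g : Matrix.SpecialLinearGroup (Fin 2) F}
    (hg : g ∉ Subgroup.center (Matrix.SpecialLinearGroup (Fin 2) F))
    (h : g * g * g ∈ Subgroup.center (Matrix.SpecialLinearGroup (Fin 2) F)) : tr g * tr g = 1 := by
  have hd := dt g
  rw [mem_center, m00 (g * g), m01 (g * g), m10 (g * g), m11 (g * g), m00, m01, m10, m11] at h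
  obtain ⟨h1, h2, h3⟩ := h
  rw [mem_center] at hg
  unfold tr
  have e1 : g.1 0 1 * ((g.1 0 0 + g.1 1 1) * (g.1 0 0 + g.1 1 1) - 1) = 0 := by
    linear_combination h1 + g.1 0 1 * hd
  have e2 : g.1 1 0 * ((g.1 0 0 + g.1 1 1) * (g.1 0 0 + g.1 1 1) - 1) = 0 := by
    linear_combination h2 + g.1 1 0 * hd
  have e3 : (g.1 0 0 - g.1 1 1) * ((g.1 0 0 + g.1 1 1) * (g.1 0 0 + g.1 1 1) - 1) = 0 := by
    linear_combination h3 + (g.1 0 0 - g.1 1 1) * hd
  by_contra hne
  have hne' : (g.1 0 0 + g.1 1 1) * (g.1 0 0 + g.1 1 1) - 1 ≠ 0 := fun h => hne (sub_eq_zero.1 h)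
  exact hg ⟨(mul_eq_zero.1 e1).resolve_right hne', (mul_eq_zero.1 e2).resolve_right hne',
    sub_eq_zero.1 ((mul_eq_zero.1 e3).resolve_right hne')⟩

theorem cube00 {g : Matrix.SpecialLinearGroup (Fin 2) F} (h : tr g * tr g = 1) :
    (g * g * g).1 0 0 = - tr g := by
  have hd := dt g
  unfold tr at *
  rw [m00 (g * g), m00, m01]
  linear_combination g.1 0 0 * h - (2 * g.1 0 0 + g.1 1 1) * hd

/-- elements commuting with `X` with the same trace -/
theorem eq_or_inv {X Y : Matrix.SpecialLinearGroup (Fin 2) F}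
    (hX : X ∉ Subgroup.center (Matrix.SpecialLinearGroup (Fin 2) F)) (h4 : tr X * tr X ≠ 4)
    (hc : X * Y = Y * X) (ht : tr Y = tr X) : Y = X ∨ Y = X⁻¹ := by
  have hdX := dt X
  have hdY := dt Y
  rw [mem_center] at hX
  rw [comm_iff] at hc
  obtain ⟨c1, c2, c3⟩ := hc
  obtain ⟨s, s1, s2, s3⟩ : ∃ s : F, Y.1 0 1 = s * X.1 0 1 ∧ Y.1 1 0 = s * X.1 1 0 ∧
      Y.1 0 0 - Y.1 1 1 = s * (X.1 0 0 - X.1 1 1) := by
    by_cases h1 : X.1 0 1 = 0
    · by_cases h2 : X.1 1 0 = 0
      · have h3 : X.1 0 0 - X.1 1 1 ≠ 0 := fun h => hX ⟨h1, h2, sub_eq_zero.1 h⟩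
        refine ⟨(Y.1 0 0 - Y.1 1 1) / (X.1 0 0 - X.1 1 1), ?_, ?_, by field_simp⟩
        · rw [h1, mul_zero]
          apply mul_right_cancel₀ h3
          rw [c2, h1]; ring
        · rw [h2, mul_zero]
          apply mul_right_cancel₀ h3
          rw [← c3, h2]; ring
      · refine ⟨Y.1 1 0 / X.1 1 0, ?_, by field_simp, ?_⟩
        · field_simp
          linear_combination -c1
        · field_simp
          linear_combination c3
    · refine ⟨Y.1 0 1 / X.1 0 1, by field_simp, ?_, ?_⟩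
      · field_simp
        linear_combination c1
      · field_simp
        linear_combination -c2
  have hss : (s - 1) * (s + 1) = 0 := by
    have h5 : (s * s - 1) * (tr X * tr X - 4) = 0 := by
      have e1 : tr X * tr X - 4 = (X.1 0 0 - X.1 1 1) ^ 2 + 4 * (X.1 0 1 * X.1 1 0) := by
        unfold tr
        linear_combination 4 * hdX
      have e2 : tr X * tr X - 4 = (Y.1 0 0 - Y.1 1 1) ^ 2 + 4 * (Y.1 0 1 * Y.1 1 0) := by
        rw [← ht]
        unfold tr
        linear_combination 4 * hdY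
      rw [s1, s2, s3] at e2
      linear_combination s * s * e1 - e2
    have h6 : tr X * tr X - 4 ≠ 0 := fun h => h4 (sub_eq_zero.1 h)
    have := (mul_eq_zero.1 h5).resolve_right h6
    linear_combination this
  unfold tr at ht
  have hs2 : s * s = 1 := by linear_combination hss
  have hprod : (Y.1 0 0 - X.1 0 0) * (Y.1 0 0 - X.1 1 1) = 0 := by
    rw [s1, s2] at hdY
    linear_combination (-(Y.1 0 0)) * ht * (-1) - hdY + hdX - X.1 0 1 * X.1 1 0 * hs2
  rcases mul_eq_zero.1 hss with h | h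
  · have hs : s = 1 := sub_eq_zero.1 h
    rw [hs] at s1 s2 s3
    rcases mul_eq_zero.1 hprod with h0 | h0
    · left
      apply ext'
      · linear_combination h0
      · linear_combination s1
      · linear_combination s2
      · linear_combination ht - h0
    · by_cases h2 : (2 : F) = 0
      · right
        apply ext'
        · rw [i00]; linear_combination h0
        · rw [i01]; linear_combination s1 + X.1 0 1 * h2
        · rw [i10]; linear_combination s2 + X.1 1 0 * h2
        · rw [i11]; linear_combination ht - h0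
      · left
        have h3 : X.1 0 0 = X.1 1 1 := by
          apply mul_left_cancel₀ h2
          linear_combination 2 * h0 - s3 - ht
        apply ext'
        · linear_combination h0 - h3
        · linear_combination s1
        · linear_combination s2
        · linear_combination ht - h0 + h3
  · have hs : s = -1 := by linear_combination h
    rw [hs] at s1 s2 s3
    rcases mul_eq_zero.1 hprod with h0 | h0
    · by_cases h2 : (2 : F) = 0
      · left
        apply ext'
        · linear_combination h0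
        · linear_combination s1 - X.1 0 1 * h2
        · linear_combination s2 - X.1 1 0 * h2
        · linear_combination ht - h0
      · right
        have h3 : X.1 0 0 = X.1 1 1 := by
          apply mul_left_cancel₀ h2
          linear_combination s3 - 2 * h0 + ht
        apply ext'
        · rw [i00]; linear_combination h0 + h3
        · rw [i01]; linear_combination s1
        · rw [i10]; linear_combination s2
        · rw [i11]; linear_combination ht - h0 - h3
    · right
      apply ext'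
      · rw [i00]; linear_combination h0
      · rw [i01]; linear_combination s1
      · rw [i10]; linear_combination s2
      · rw [i11]; linear_combination ht - h0

/-- an element inverting `X` has trace zero -/
theorem tr_of_inv {X Y : Matrix.SpecialLinearGroup (Fin 2) F}
    (hX : X ∉ Subgroup.center (Matrix.SpecialLinearGroup (Fin 2) F)) (h : Y * X * Y⁻¹ = X⁻¹) :
    tr Y = 0 := by
  rw [mem_center] at hX
  have h' : Y * X = X⁻¹ * Y := mul_inv_eq_iff_eq_mul.1 h
  have h00 : (Y * X).1 0 0 = (X⁻¹ * Y).1 0 0 := by rw [h']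
  have h01 : (Y * X).1 0 1 = (X⁻¹ * Y).1 0 1 := by rw [h']
  have h10 : (Y * X).1 1 0 = (X⁻¹ * Y).1 1 0 := by rw [h']
  have h11 : (Y * X).1 1 1 = (X⁻¹ * Y).1 1 1 := by rw [h']
  rw [m00, m00, i00, i01] at h00
  rw [m01, m01, i00, i01] at h01
  rw [m10, m10, i10, i11] at h10
  rw [m11, m11, i10, i11] at h11
  unfold tr
  have e1 : X.1 0 1 * (Y.1 0 0 + Y.1 1 1) = 0 := by linear_combination h01
  have e2 : X.1 1 0 * (Y.1 0 0 + Y.1 1 1) = 0 := by linear_combination h10
  have e3 : (X.1 0 0 - X.1 1 1) * (Y.1 0 0 + Y.1 1 1) = 0 := by linear_combination h00 - h11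
  by_contra hne
  exact hX ⟨(mul_eq_zero.1 e1).resolve_right hne, (mul_eq_zero.1 e2).resolve_right hne,
    sub_eq_zero.1 ((mul_eq_zero.1 e3).resolve_right hne)⟩

/-- the matrix with the given entries -/
def mk2 (a b c d : F) (h : a * d - b * c = 1) : Matrix.SpecialLinearGroup (Fin 2) F :=
  ⟨!![a, b; c, d], by rw [Matrix.det_fin_two_of, h]⟩

theorem k00 (a b c d : F) (h : a * d - b * c = 1) : (mk2 a b c d h).1 0 0 = a := rfl
theorem k01 (a b c d : F) (h : a * d - b * c = 1) : (mk2 a b c d h).1 0 1 = b := rfl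
theorem k10 (a b c d : F) (h : a * d - b * c = 1) : (mk2 a b c d h).1 1 0 = c := rfl
theorem k11 (a b c d : F) (h : a * d - b * c = 1) : (mk2 a b c d h).1 1 1 = d := rfl

theorem tr_mk2 (a b c d : F) (h : a * d - b * c = 1) : tr (mk2 a b c d h) = a + d := rfl

theorem tr_mul_mk2 (X : Matrix.SpecialLinearGroup (Fin 2) F) (a b c d : F) (h : a * d - b * c = 1) :
    tr (X * mk2 a b c d h) = X.1 0 0 * a + X.1 0 1 * c + (X.1 1 0 * b + X.1 1 1 * d) := by
  unfold tr
  rw [m00, m11]
  rfl

attribute [irreducible] mk2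

/-- elements `g` with prescribed traces of `g` and `X g` -/
theorem exists_g {X : Matrix.SpecialLinearGroup (Fin 2) F}
    (hX : X ∉ Subgroup.center (Matrix.SpecialLinearGroup (Fin 2) F)) {ε₁ ε₂ y z : F}
    (h : z * z + y * y - tr X * z * y - ε₁ * z + ε₂ * y + 1 = 0) :
    ∃ g : Matrix.SpecialLinearGroup (Fin 2) F, tr g = ε₁ ∧ tr (X * g) = ε₂ ∧ (y ≠ 1 → g ≠ X) := by
  have hdX := dt X
  rw [mem_center] at hX
  by_cases h2 : X.1 1 0 = 0
  · by_cases h1 : X.1 0 1 = 0
    · have h3 : X.1 1 1 - X.1 0 0 ≠ 0 := fun h => hX ⟨h1, h2, (sub_eq_zero.1 h).symm⟩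
      set z' : F := (ε₂ - X.1 0 0 * ε₁) / (X.1 1 1 - X.1 0 0) with hz'
      refine ⟨mk2 (ε₁ - z') ((ε₁ - z') * z' - 1) 1 z' (by ring), ?_, ?_, ?_⟩
      · rw [tr_mk2]; ring
      · rw [tr_mul_mk2, h1, h2, hz']
        field_simp
        ring
      · intro _ hg
        have h5 : (mk2 _ _ _ _ _).1 1 0 = X.1 1 0 := congrArg (fun Y : Matrix.SpecialLinearGroup (Fin 2) F => Y.1 1 0) hg
        rw [k10, h2] at h5
        exact one_ne_zero h5
    · refine ⟨mk2 (ε₁ - z + X.1 0 0 * y) (X.1 0 1 * y)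
        (((ε₂ + y - tr X * z + X.1 0 0 * z) - (ε₁ - z + X.1 0 0 * y) * X.1 0 0) / X.1 0 1)
          (z - X.1 0 0 * y) (by
        field_simp
        linear_combination -h), ?_, ?_, ?_⟩
      · rw [tr_mk2]; ring
      · rw [tr_mul_mk2]
        unfold tr
        field_simp
        linear_combination -y * hdX
      · intro hy hg
        have h5 : (mk2 _ _ _ _ _).1 0 1 = X.1 0 1 := congrArg (fun Y : Matrix.SpecialLinearGroup (Fin 2) F => Y.1 0 1) hg
        rw [k01] at h5
        apply hy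
        apply mul_left_cancel₀ h1
        rw [h5, mul_one]
  · refine ⟨mk2 (ε₁ - z + X.1 0 0 * y)
        (((ε₂ + y - tr X * z + X.1 0 0 * z) - (ε₁ - z + X.1 0 0 * y) * X.1 0 0) / X.1 1 0)
        (X.1 1 0 * y) (z - X.1 0 0 * y) (by
      field_simp
      linear_combination -h), ?_, ?_, ?_⟩
    · rw [tr_mk2]; ring
    · rw [tr_mul_mk2]
      unfold tr
      field_simp
      linear_combination -y * hdX
    · intro hy hg
      have h5 : (mk2 _ _ _ _ _).1 1 0 = X.1 1 0 := congrArg (fun Y : Matrix.SpecialLinearGroup (Fin 2) F => Y.1 1 0) hg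
      rw [k10] at h5
      apply hy
      apply mul_left_cancel₀ h2
      rw [h5, mul_one]

/-- **the ternary obstruction** -/
theorem tern_false {K : Subgroup (Matrix.SpecialLinearGroup (Fin 2) F)} (hb : Binary K)
    (hcen : Subgroup.center (Matrix.SpecialLinearGroup (Fin 2) F) ≤ K)
    {X g : Matrix.SpecialLinearGroup (Fin 2) F} (hX : X ∈ K)
    (hcomm : ∀ Y ∈ K, X * Y = Y * X) (h1 : tr g * tr g = 1) (h2 : tr (X * g) * tr (X * g) = 1)
    (hne : X * (g * X * g⁻¹) ≠ (g * X * g⁻¹) * X) : False := by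
  set c₁ := g * g * g with hc₁
  set c₂ := (X * g) * (X * g) * (X * g) with hc₂
  have k1 := cube h1
  have k2 := cube h2
  have z1 : ∀ Y, Y * c₁ = c₁ * Y := Subgroup.mem_center_iff.1 k1
  have z2 : ∀ Y, Y * c₂ = c₂ * Y := Subgroup.mem_center_iff.1 k2
  have e1 : (g * g)⁻¹ * (X⁻¹⁻¹ * (g * X * g⁻¹)) * (g * g) = c₂ * (c₁⁻¹ * X⁻¹) := by
    have e2 : (g * g)⁻¹ * (X⁻¹⁻¹ * (g * X * g⁻¹)) * (g * g) = (g * g)⁻¹ * (c₂ * (X * g)⁻¹) := by
      rw [hc₂]; group
    rw [e2, ← mul_assoc, z2, mul_assoc, hc₁]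
    congr 1
    group
  obtain ⟨a, ha, ha2, ha3⟩ := hb.ternary (x := X⁻¹) (y := g * X * g⁻¹) (g₂ := g) (g₃ := g * g)
    (K.inv_mem hX)
    (by
      have : g⁻¹ * (g * X * g⁻¹) * g = X := by group
      rw [this]; exact hX)
    (by
      rw [e1]
      exact K.mul_mem (hcen k2) (K.mul_mem (K.inv_mem (hcen k1)) (K.inv_mem hX)))
  rw [inv_inv] at ha3
  by_cases hac : a ∈ Subgroup.center (Matrix.SpecialLinearGroup (Fin 2) F)
  · have z3 : ∀ Y, Y * a = a * Y := Subgroup.mem_center_iff.1 hac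
    have e3 : (g * g)⁻¹ * (X * a) * (g * g) = (g * g)⁻¹ * X * (g * g) * a := by
      calc (g * g)⁻¹ * (X * a) * (g * g) = (g * g)⁻¹ * X * (a * (g * g)) := by group
        _ = (g * g)⁻¹ * X * ((g * g) * a) := by rw [z3]
        _ = _ := by group
    rw [e3] at ha3
    have h3 := K.mul_mem ha3 (K.inv_mem ha)
    rw [mul_inv_cancel_right] at h3
    have h4 := hcomm _ h3
    set X₃ := (g * g) * X * (g * g)⁻¹ with hX₃
    have h5 : Commute X X₃ := by
      show X * X₃ = X₃ * X
      have e4 : X * X₃ = (g * g) * ((g * g)⁻¹ * X * (g * g) * X) * (g * g)⁻¹ := by rw [hX₃]; group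
      have e5 : X₃ * X = (g * g) * (X * ((g * g)⁻¹ * X * (g * g))) * (g * g)⁻¹ := by rw [hX₃]; group
      rw [e4, e5, h4]
    have e6 : g * X * g⁻¹ = X⁻¹ * (c₂ * c₁⁻¹) * X₃⁻¹ := by
      rw [hc₂, hc₁, hX₃]; group
    apply hne
    have h6 : Commute X (g * X * g⁻¹) := by
      rw [e6]
      have h7 : Commute X c₂ := z2 X
      have h8 : Commute X c₁ := z1 X
      exact (((Commute.refl X).inv_right).mul_right (h7.mul_right h8.inv_right)).mul_right h5.inv_right
    exact h6
  · apply hne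
    apply comm_trans hac (hcomm a ha).symm
    have h4 := hcomm _ ha2
    have e4 : a * (g * X * g⁻¹) = g * ((g⁻¹ * a * g) * X) * g⁻¹ := by group
    have e5 : g * X * g⁻¹ * a = g * (X * (g⁻¹ * a * g)) * g⁻¹ := by group
    rw [e4, e5, h4]

end PL

end Cfsg.Agent.H896
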