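import Cfsg.Agent.H896.PSLAlg

/-!
# Binary actions of `SL₂(q)` modulo the centre: the two cases of point stabilisers of odd order (helper896)
-/

set_option autoImplicit false
set_option linter.unusedSectionVars false

namespace Cfsg.Agent.H896

namespace PL

open Matrix

variable {F : Type*} [Field F]

theorem noncomm {X g : Matrix.SpecialLinearGroup (Fin 2) F}
    (hX : X ∉ Subgroup.center (Matrix.SpecialLinearGroup (Fin 2) F)) (h4 : tr X * tr X ≠ 4)
    (h1 : tr g * tr g = 1) (h2 : tr (X * g) * tr (X * g) = 1) (hg : X * g ≠ g * X) :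
    X * (g * X * g⁻¹) ≠ (g * X * g⁻¹) * X := by
  intro h
  rcases eq_or_inv hX h4 h (tr_conj X g) with h3 | h3
  · apply hg
    exact (mul_inv_eq_iff_eq_mul.1 h3).symm
  · apply hX
    have e1 : (X * g) * (X * g) * (X * g) = X * (g * X * g⁻¹) * (g * (g * X * g⁻¹) * g⁻¹) * (g * g * g) := by
      group
    have e2 : g * X⁻¹ * g⁻¹ = X := by
      have : g * X⁻¹ * g⁻¹ = (g * X * g⁻¹)⁻¹ := by group
      rw [this, h3, inv_inv]
    rw [h3, e2, mul_inv_cancel, one_mul] at e1
    have h5 := Subgroup.mul_mem _ (cube h2) (Subgroup.inv_mem _ (cube h1))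
    rw [e1, mul_inv_cancel_right] at h5
    exact h5

theorem not_comm_of_ne {X g : Matrix.SpecialLinearGroup (Fin 2) F}
    (hX : X ∉ Subgroup.center (Matrix.SpecialLinearGroup (Fin 2) F)) (hα : tr X * tr X ≠ 1)
    (h1 : tr g * tr g = 1) (h2 : tr (X * g) * tr (X * g) = 1) : X * g ≠ g * X := by
  intro h
  apply hα
  apply of_cube hX
  have hc : Commute X g := h
  have e1 : X * X * X = (X * g) * (X * g) * (X * g) * (g * g * g)⁻¹ := by
    have e2 : (X * g) * (X * g) * (X * g) = X * (g * X) * (g * X) * g := by group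
    have e3 : X * (g * X) * (g * X) * g = X * (X * g) * (X * g) * g := by rw [h]
    have e4 : X * (X * g) * (X * g) * g = X * X * (g * X) * g * g := by group
    have e5 : X * X * (g * X) * g * g = X * X * (X * g) * g * g := by rw [h]
    rw [e2, e3, e4, e5]; group
  rw [e1]
  exact Subgroup.mul_mem _ (cube h2) (Subgroup.inv_mem _ (cube h1))

theorem not_comm_of_odd {X g : Matrix.SpecialLinearGroup (Fin 2) F}
    (hX : X ∉ Subgroup.center (Matrix.SpecialLinearGroup (Fin 2) F)) (h0 : (2 : F) ≠ 0)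
    (hα : tr X * tr X = 1)
    (h1 : tr g * tr g = 1) (h2 : tr (X * g) * tr (X * g) = 1) (h3 : tr g * tr (X * g) = tr X) :
    X * g ≠ g * X := by
  intro h
  have e1 : (X * g) * (X * g) * (X * g) = (X * X * X) * (g * g * g) := by
    have e2 : (X * g) * (X * g) * (X * g) = X * (g * X) * (g * X) * g := by group
    have e3 : X * (g * X) * (g * X) * g = X * (X * g) * (X * g) * g := by rw [h]
    have e4 : X * (X * g) * (X * g) * g = X * X * (g * X) * g * g := by group
    have e5 : X * X * (g * X) * g * g = X * X * (X * g) * g * g := by rw [h]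
    rw [e2, e3, e4, e5]; group
  have e2 : ((X * g) * (X * g) * (X * g)).1 0 0 = ((X * X * X) * (g * g * g)).1 0 0 := by rw [e1]
  have e3 : (X * X * X).1 0 1 = 0 := (mem_center.1 (cube hα)).1
  rw [m00 (X * X * X), cube00 h2, cube00 hα, cube00 h1, e3, zero_mul, add_zero] at e2
  have h5 : 2 * tr X = 0 := by
    have : -(tr g * tr (X * g)) = tr X := by
      linear_combination tr g * e2 + tr X * h1
    linear_combination -h3 - this
  have h6 := (mul_eq_zero.1 h5).resolve_left h0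
  rw [h6, mul_zero] at hα
  exact zero_ne_one hα

section Exists

variable [Finite F]

theorem exists_conic_odd (h0 : (2 : F) ≠ 0) {α ε₁ ε₂ : F} (h4 : α * α ≠ 4) :
    ∃ y z : F, z * z + y * y - α * z * y - ε₁ * z + ε₂ * y + 1 = 0 := by
  classical
  let _ : Fintype F := Fintype.ofFinite F
  have hodd : Fintype.card F % 2 = 1 := by
    have h3 : ringChar F ≠ 2 := by
      intro h
      apply h0
      have := ringChar.Nat.cast_ringChar (R := F)
      rw [h] at this
      exact_mod_cast this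
    exact FiniteField.odd_card_of_char_ne_two h3
  have hc : -(α * α - 4) ≠ 0 := neg_ne_zero.2 (sub_ne_zero.2 h4)
  obtain ⟨w, y, h⟩ := FiniteField.exists_root_sum_quadratic (R := F)
    (f := Polynomial.C 1 * Polynomial.X ^ 2 + Polynomial.C 0 * Polynomial.X + Polynomial.C 0)
    (g := Polynomial.C (-(α * α - 4)) * Polynomial.X ^ 2 +
      Polynomial.C (-(2 * α * ε₁ - 4 * ε₂)) * Polynomial.X + Polynomial.C (-(ε₁ * ε₁ - 4)))
    (Polynomial.degree_quadratic one_ne_zero) (Polynomial.degree_quadratic hc) hodd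
  simp only [Polynomial.eval_add, Polynomial.eval_mul, Polynomial.eval_C, Polynomial.eval_pow,
    Polynomial.eval_X] at h
  have h40 : (4 : F) ≠ 0 := by
    have : (4 : F) = 2 * 2 := by norm_num
    rw [this]
    exact mul_ne_zero h0 h0
  refine ⟨y, (w + α * y + ε₁) / 2, ?_⟩
  apply mul_left_cancel₀ h40
  rw [mul_zero]
  field_simp
  linear_combination 4 * h

theorem exists_conic_even [CharP F 2] {α : F} (hα : α ≠ 0) :
    ∃ y z : F, z * z + y * y - α * z * y - 1 * z + 1 * y + 1 = 0 := by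
  have hs : Function.Surjective (fun x : F => x ^ 2) :=
    Finite.surjective_of_injective (fun x y h => by
      have h' : x ^ 2 = y ^ 2 := h
      have : (x + y) ^ 2 = 0 := by
        linear_combination h' + (x * y) * (CharTwo.two_eq_zero (R := F)) +
          y ^ 2 * (CharTwo.two_eq_zero (R := F))
      exact CharTwo.add_eq_zero.1 (pow_eq_zero_iff two_ne_zero |>.1 this))
  obtain ⟨z, hz⟩ := hs (α⁻¹ * α⁻¹ + α⁻¹ + 1)
  have hz : z ^ 2 = α⁻¹ * α⁻¹ + α⁻¹ + 1 := hz
  refine ⟨α⁻¹, z, ?_⟩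
  have e1 : α * z * α⁻¹ = z := by field_simp
  rw [e1]
  linear_combination hz + (α⁻¹ * α⁻¹ + α⁻¹ + 1 - z) * (CharTwo.two_eq_zero (R := F))

/-- **abelian case, `q` odd** -/
theorem false_odd (h0 : (2 : F) ≠ 0) {K : Subgroup (Matrix.SpecialLinearGroup (Fin 2) F)} (hb : Binary K)
    (hcen : Subgroup.center (Matrix.SpecialLinearGroup (Fin 2) F) ≤ K)
    {X : Matrix.SpecialLinearGroup (Fin 2) F} (hX : X ∈ K)
    (hXc : X ∉ Subgroup.center (Matrix.SpecialLinearGroup (Fin 2) F))
    (hcomm : ∀ Y ∈ K, X * Y = Y * X) (h4 : tr X * tr X ≠ 4) : False := by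
  by_cases hα : tr X * tr X = 1
  · obtain ⟨y, z, h⟩ := exists_conic_odd h0 (α := tr X) (ε₁ := 1) (ε₂ := tr X) h4
    obtain ⟨g, h1, h2, -⟩ := exists_g hXc h
    have h1' : tr g * tr g = 1 := by rw [h1, mul_one]
    have h2' : tr (X * g) * tr (X * g) = 1 := by rw [h2, hα]
    exact tern_false hb hcen hX hcomm h1' h2' (noncomm hXc h4 h1' h2'
      (not_comm_of_odd hXc h0 hα h1' h2' (by rw [h1, h2, one_mul])))
  · obtain ⟨y, z, h⟩ := exists_conic_odd h0 (α := tr X) (ε₁ := 1) (ε₂ := 1) h4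
    obtain ⟨g, h1, h2, -⟩ := exists_g hXc h
    have h1' : tr g * tr g = 1 := by rw [h1, mul_one]
    have h2' : tr (X * g) * tr (X * g) = 1 := by rw [h2, mul_one]
    exact tern_false hb hcen hX hcomm h1' h2' (noncomm hXc h4 h1' h2'
      (not_comm_of_ne hXc hα h1' h2'))

/-- **abelian case, `q` even, `X³ ≠ 1`** -/
theorem false_even [CharP F 2] {K : Subgroup (Matrix.SpecialLinearGroup (Fin 2) F)} (hb : Binary K)
    (hcen : Subgroup.center (Matrix.SpecialLinearGroup (Fin 2) F) ≤ K)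
    {X : Matrix.SpecialLinearGroup (Fin 2) F} (hX : X ∈ K)
    (hXc : X ∉ Subgroup.center (Matrix.SpecialLinearGroup (Fin 2) F))
    (hcomm : ∀ Y ∈ K, X * Y = Y * X) (h4 : tr X ≠ 0) (hα : tr X ≠ 1) : False := by
  have h2 := CharTwo.two_eq_zero (R := F)
  have h4' : tr X * tr X ≠ 4 := by
    have : (4 : F) = 0 := by linear_combination 2 * h2
    rw [this]
    exact mul_ne_zero h4 h4
  have hα' : tr X * tr X ≠ 1 := by
    intro h
    apply hα
    have h5 : (tr X + 1) ^ 2 = 0 := by linear_combination h + (tr X + 1) * h2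
    exact CharTwo.add_eq_zero.1 (pow_eq_zero_iff two_ne_zero |>.1 h5)
  obtain ⟨y, z, h⟩ := exists_conic_even h4
  obtain ⟨g, h1, h2, -⟩ := exists_g hXc h
  have h1' : tr g * tr g = 1 := by rw [h1, mul_one]
  have h2' : tr (X * g) * tr (X * g) = 1 := by rw [h2, mul_one]
  exact tern_false hb hcen hX hcomm h1' h2' (noncomm hXc h4' h1' h2'
    (not_comm_of_ne hXc hα' h1' h2'))

end Exists

/-- **abelian case, `q = 4^k`, `X³ = 1`** -/
theorem false_three [CharP F 2] {K : Subgroup (Matrix.SpecialLinearGroup (Fin 2) F)} (hb : Binary K)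
    (hcen : Subgroup.center (Matrix.SpecialLinearGroup (Fin 2) F) ≤ K)
    {X : Matrix.SpecialLinearGroup (Fin 2) F} (hX : X ∈ K)
    (hXc : X ∉ Subgroup.center (Matrix.SpecialLinearGroup (Fin 2) F))
    (hcomm : ∀ Y ∈ K, X * Y = Y * X) (hα : tr X = 1) {ω : F} (hω : ω * ω + ω + 1 = 0) : False := by
  have h2 := CharTwo.two_eq_zero (R := F)
  have h4 : tr X * tr X ≠ 4 := by
    have : (4 : F) = 0 := by linear_combination 2 * h2
    rw [this, hα, mul_one]
    exact one_ne_zero
  have h : ω * ω + 0 * 0 - tr X * ω * 0 - 1 * ω + 1 * 0 + 1 = 0 := by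
    linear_combination hω - ω * h2
  obtain ⟨g, h1, h5, h6⟩ := exists_g hXc h
  have hgX : g ≠ X := h6 zero_ne_one
  have h1' : tr g * tr g = 1 := by rw [h1, mul_one]
  have h2' : tr (X * g) * tr (X * g) = 1 := by rw [h5, mul_one]
  refine tern_false hb hcen hX hcomm h1' h2' (noncomm hXc h4 h1' h2' ?_)
  intro hc
  rcases eq_or_inv hXc h4 hc (by rw [h1, hα]) with h7 | h7
  · exact hgX h7
  · rw [h7, mul_inv_cancel] at h5
    unfold tr at h5
    rw [o00, o11] at h5
    have : (1 : F) = 0 := by linear_combination -h5 + h2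
    exact one_ne_zero this

/-! ### Borel type -/

/-- the Weyl element -/
def w2 (F : Type*) [Field F] : Matrix.SpecialLinearGroup (Fin 2) F := mk2 0 1 (-1) 0 (by ring)

theorem w2_conj (X : Matrix.SpecialLinearGroup (Fin 2) F) :
    ((w2 F)⁻¹ * X * w2 F).1 1 0 = -X.1 0 1 := by
  rw [m10 ((w2 F)⁻¹ * X), m10, m11, i10, i11]
  unfold w2
  simp only [k00, k10]
  ring

/-- **unipotent case** -/
theorem false_unip (h0 : (2 : F) ≠ 0) {K : Subgroup (Matrix.SpecialLinearGroup (Fin 2) F)} (hb : Binary K)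
    (hcen : Subgroup.center (Matrix.SpecialLinearGroup (Fin 2) F) ≤ K)
    (hB : ∀ Y ∈ K, Y.1 1 0 = 0) (hU : ∀ Y ∈ K, Y.1 0 0 = Y.1 1 1)
    {X : Matrix.SpecialLinearGroup (Fin 2) F} (hX : X ∈ K)
    (hXc : X ∉ Subgroup.center (Matrix.SpecialLinearGroup (Fin 2) F)) : False := by
  have hX10 := hB X hX
  have hX00 := hU X hX
  have hX01 : X.1 0 1 ≠ 0 := fun h => hXc (mem_center.2 ⟨h, hX10, hX00⟩)
  have hdX := dt X
  have hcommX : ∀ Y ∈ K, X * Y = Y * X := by
    intro Y hY
    rw [comm_iff, hX10, hB Y hY, hX00, hU Y hY]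
    refine ⟨by ring, by ring, by ring⟩
  set e := X.1 0 0 with he
  have hee : e * e = 1 := by
    rw [← hX00, hX10] at hdX
    linear_combination hdX
  have he0 : e ≠ 0 := by
    intro h
    rw [h, zero_mul] at hee
    exact zero_ne_one hee
  set g := mk2 (0 : F) (-(X.1 0 1 * e) / 2) (2 * e / X.1 0 1) (-1) (by
    field_simp
    linear_combination hee) with hg
  have htg : tr g = -1 := by rw [hg, tr_mk2]; ring
  have htXg : tr (X * g) = e := by
    rw [hg, tr_mul_mk2, ← he, ← hX00, hX10]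
    field_simp
    ring
  refine tern_false hb hcen hX hcommX (g := g) (by rw [htg]; ring) (by rw [htXg, hee]) ?_
  intro h
  rw [comm_iff] at h
  have h1 := h.1
  rw [hX10, zero_mul] at h1
  have h2 := (mul_eq_zero.1 h1).resolve_left hX01
  rw [m10 (g * X), m10, m11, i00, i10, hX10, ← hX00] at h2
  rw [hg, k10, k11] at h2
  apply h0
  have h3 : (2 * e / X.1 0 1) * (2 * e / X.1 0 1) * X.1 0 1 = 0 := by linear_combination -h2
  field_simp at h3
  have h4 : (2 : F) * 2 = 0 := by linear_combination h3 - 4 * hee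
  exact (mul_self_eq_zero.1 h4)

/-- **Borel case** -/
theorem false_borel {K : Subgroup (Matrix.SpecialLinearGroup (Fin 2) F)} (hb : Binary K)
    (hB : ∀ Y ∈ K, Y.1 1 0 = 0) (hO : ∀ Y ∈ K, tr Y ≠ 0)
    {X k : Matrix.SpecialLinearGroup (Fin 2) F} (hX : X ∈ K) (hX00 : X.1 0 0 = X.1 1 1)
    (hX01 : X.1 0 1 ≠ 0) (hk : k ∈ K) (hk01 : k.1 0 1 = 0) (hkne : k.1 0 0 ≠ k.1 1 1) : False := by
  have hX10 := hB X hX
  have hk10 := hB k hk
  have hdX := dt X
  have hdk := dt k
  rw [hX10, ← hX00] at hdX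
  rw [hk10] at hdk
  have hkw : (w2 F)⁻¹ * k * w2 F = k⁻¹ := by
    apply ext'
    · rw [m00 ((w2 F)⁻¹ * k), m00, m01, i00, i01, i00, hk01, hk10]
      unfold w2
      simp only [k00, k01, k10, k11]; ring
    · rw [m01 ((w2 F)⁻¹ * k), m00, m01, i00, i01, i01, hk01, hk10]
      unfold w2
      simp only [k00, k01, k10, k11]; ring
    · rw [w2_conj, i10, hk01, hk10]
    · rw [m11 ((w2 F)⁻¹ * k), m10, m11, i10, i11, i11, hk01, hk10]
      unfold w2
      simp only [k00, k01, k10, k11]; ring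
  set v' := k * X * k⁻¹ with hv'
  have v00 : v'.1 0 0 = X.1 0 0 := by
    rw [hv', m00 (k * X), m00, m01, i00, i10, hk01, hk10, hX10]
    linear_combination X.1 0 0 * hdk
  have v01 : v'.1 0 1 = k.1 0 0 * k.1 0 0 * X.1 0 1 := by
    rw [hv', m01 (k * X), m00, m01, i01, i11, hk01, hX10]
    ring
  have v10 : v'.1 1 0 = 0 := by
    rw [hv', m10 (k * X), m10, m11, i00, i10, hk10, hX10]
    ring
  have v11 : v'.1 1 1 = X.1 0 0 := by
    rw [hv', m11 (k * X), m10, m11, i01, i11, hk01, hk10, hX10, ← hX00]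
    linear_combination X.1 0 0 * hdk
  obtain ⟨g, hg, h1, h2, h3⟩ := hb.four (k := k) (v := X) (w := w2 F) (by
      rw [hkw]; exact K.inv_mem hk) hX hk (by
      rw [← hv', comm_iff, v10, hX10, v00, v11, ← hX00]
      refine ⟨by ring, by ring, by ring⟩)
  rw [← hv'] at h2 h3
  have hg10 := hB g hg
  have hg01 : g.1 0 1 = 0 := by
    have := hB _ h1
    rw [w2_conj] at this
    linear_combination -this
  have hdg := dt g
  rw [hg10, hg01] at hdg
  -- the second fixed point
  have hxx : g.1 0 0 = g.1 1 1 := by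
    have h4 := hB _ h2
    have e1 : (X * v' * w2 F)⁻¹ * g * (X * v' * w2 F) =
        (w2 F)⁻¹ * ((X * v')⁻¹ * g * (X * v')) * w2 F := by group
    rw [e1, w2_conj, m01 ((X * v')⁻¹ * g), m00 (X * v')⁻¹, m01 (X * v')⁻¹, i00, i01, m01, m11,
      v01, v11, hX10, ← hX00, hg01, hg10] at h4
    have h5 : X.1 0 0 * X.1 0 0 * X.1 0 0 * X.1 0 1 * ((k.1 0 0 * k.1 0 0 + 1) * (g.1 0 0 - g.1 1 1)) = 0 := by
      linear_combination -h4
    have hx0 : X.1 0 0 ≠ 0 := by
      intro h
      rw [h] at hdX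
      simp at hdX
    have h6 : k.1 0 0 * k.1 0 0 + 1 ≠ 0 := by
      intro h
      apply hO k hk
      unfold tr
      have hk0 : k.1 0 0 ≠ 0 := by
        intro h
        rw [h] at hdk
        simp at hdk
      apply mul_left_cancel₀ hk0
      linear_combination h + hdk
    have h7 := (mul_eq_zero.1 h5).resolve_left
      (mul_ne_zero (mul_ne_zero (mul_ne_zero hx0 hx0) hx0) hX01)
    exact sub_eq_zero.1 ((mul_eq_zero.1 h7).resolve_left h6)
  have h4 := hB _ h3
  have e1 : (v' * w2 F)⁻¹ * g * (X * w2 F) = (w2 F)⁻¹ * (v'⁻¹ * g * X) * w2 F := by group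
  rw [e1, w2_conj, m01 (v'⁻¹ * g), m00 v'⁻¹, m01 v'⁻¹, i00, i01, v01, v11, hg01, hg10, ← hX00,
    ← hxx] at h4
  have hg0 : g.1 0 0 ≠ 0 := by
    intro h
    rw [h] at hdg
    simp at hdg
  have hx0 : X.1 0 0 ≠ 0 := by
    intro h
    rw [h] at hdX
    simp at hdX
  have h5 : X.1 0 0 * g.1 0 0 * X.1 0 1 * (k.1 0 0 * k.1 0 0 - 1) = 0 := by
    linear_combination h4
  have h6 := (mul_eq_zero.1 h5).resolve_left (mul_ne_zero (mul_ne_zero hx0 hg0) hX01)
  apply hkne
  have hk0 : k.1 0 0 ≠ 0 := by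
    intro h
    rw [h] at hdk
    simp at hdk
  apply mul_left_cancel₀ hk0
  linear_combination h6 - hdk

end PL

end Cfsg.Agent.H896
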