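import Cfsg.Agent.H896.Even
import Cfsg.Agent.S5735
import Cfsg.Agent.TwoFusion.SLTwoFacts
import Cfsg.Agent.ClassicalGeometry.SLTwoFour

/-!
# `PSL₂(q)`, `q` odd: no binary action with point stabilisers of even order (helper896)
-/

set_option autoImplicit false
set_option linter.unusedSectionVars false

namespace Cfsg.Agent.H896

/-- involutions commuting with an involution commute -/
def CentComm (G : Type*) [Group G] : Prop :=
  ∀ t s₁ s₂ : G, orderOf t = 2 → orderOf s₁ = 2 → orderOf s₂ = 2 → s₁ * t = t * s₁ → s₂ * t = t * s₂ →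
    s₁ * s₂ = s₂ * s₁

theorem Frame.centComm {G : Type*} [Group G] [Finite G] {B U Z : Subgroup G} {w : G}
    (F : Frame B U Z w) (hZ : Z ≠ ⊥) : CentComm G := by
  intro t s₁ s₂ ht hs₁ hs₂ h1 h2
  obtain ⟨g, hg⟩ := F.exists_conj_Z hZ ht
  have hne : g * t * g⁻¹ ≠ 1 := by
    intro h
    apply ne_one_of_orderOf ht
    have : t = g⁻¹ * (g * t * g⁻¹) * g := by group
    rw [this, h]; group
  have key : ∀ s : G, orderOf s = 2 → s * t = t * s → g * s * g⁻¹ ∈ Z := by
    intro s hs hst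
    apply F.cent _ hg hne
    · have : g * s * g⁻¹ * (g * s * g⁻¹) = g * (s * s) * g⁻¹ := by group
      rw [this, mul_self_of_orderOf hs]; group
    · have e1 : g * s * g⁻¹ * (g * t * g⁻¹) = g * (s * t) * g⁻¹ := by group
      have e2 : g * t * g⁻¹ * (g * s * g⁻¹) = g * (t * s) * g⁻¹ := by group
      rw [e1, e2, hst]
  have h3 := F.comm (key s₁ hs₁ h1) (key s₂ hs₂ h2)
  have e1 : g * s₁ * g⁻¹ * (g * s₂ * g⁻¹) = g * (s₁ * s₂) * g⁻¹ := by group
  have e2 : g * s₂ * g⁻¹ * (g * s₁ * g⁻¹) = g * (s₂ * s₁) * g⁻¹ := by group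
  rw [e1, e2] at h3
  exact mul_left_cancel (mul_right_cancel h3)

theorem CentComm.of_equiv {G G' : Type*} [Group G] [Group G'] (e : G ≃* G') (h : CentComm G') :
    CentComm G := by
  intro t s₁ s₂ ht hs₁ hs₂ h1 h2
  apply e.injective
  rw [map_mul, map_mul]
  apply h (e t) (e s₁) (e s₂)
  · rw [MulEquiv.orderOf_eq, ht]
  · rw [MulEquiv.orderOf_eq, hs₁]
  · rw [MulEquiv.orderOf_eq, hs₂]
  · rw [← map_mul, h1, map_mul]
  · rw [← map_mul, h2, map_mul]

theorem centComm_sl {G : Type*} [Group G] {F : Type*} [Field F] [Fintype F] {a : ℕ}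
    (hF : Fintype.card F = 2 ^ a) (e : Nonempty (G ≃* Matrix.SpecialLinearGroup (Fin 2) F)) :
    CentComm G := by
  have := charP_two_of_card_pow hF
  obtain ⟨e⟩ := e
  exact CentComm.of_equiv e (SLTwo.frame.centComm SLTwo.U_ne_bot)

theorem centComm_sz {G : Type*} [Group G] {F : Type*} [Field F] [Fintype F] {m : ℕ}
    (hF : Fintype.card F = 2 ^ (2 * m + 1))
    (e : Nonempty (G ≃* Cfsg.Lie.Sz F (2 ^ (m + 1)))) : CentComm G := by
  obtain ⟨e⟩ := e
  have hg := Cfsg.Agent.LieRecognition.SzMatrix.good hF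
  exact CentComm.of_equiv e ((SzG.frame hg).centComm (SzG.Z_ne_bot hg))

theorem centComm_psu {G : Type*} [Group G] {F : Type*} [Field F] [Finite F] {n : ℕ}
    (hn : 1 ≤ n) (hF : Nat.card F = (2 ^ n) ^ 2) (e : Nonempty (G ≃* Cfsg.PSU 3 F (2 ^ n))) :
    CentComm G := by
  obtain ⟨h2, σ, hσ, hs, -, -⟩ :=
    Cfsg.Agent.LieRecognition.PSUThreeSylow.exists_heis_equiv F (n := n) hn hF
  obtain ⟨R⟩ := nonempty_urelx (σ := σ) (n := n) hn hs hF
  obtain ⟨e⟩ := e
  have : Finite (Cfsg.PSU 3 F (2 ^ n)) := inferInstance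
  exact CentComm.of_equiv e ((URelX.frame R hn hs hF).centComm (URelX.Z_ne_bot R))

section Odd

open Matrix

variable {F : Type*} [Field F]

/-- the Weyl element -/
def wl (F : Type*) [Field F] : Matrix.SpecialLinearGroup (Fin 2) F :=
  ⟨!![0, 1; -1, 0], by simp [Matrix.det_fin_two]⟩

/-- the elements anticommuting with `wl` -/
def yl (a b : F) (h : a * a + b * b = -1) : Matrix.SpecialLinearGroup (Fin 2) F :=
  ⟨!![a, b; b, -a], by rw [Matrix.det_fin_two_of]; linear_combination -h⟩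

theorem eq_neg_iff_mk {A B : Matrix.SpecialLinearGroup (Fin 2) F}
    (h : (QuotientGroup.mk A : Matrix.ProjectiveSpecialLinearGroup (Fin 2) F) = QuotientGroup.mk B) :
    ∃ r : F, r * r = 1 ∧ ∀ i j, B.1 i j = r * A.1 i j := by
  rw [QuotientGroup.eq, Matrix.SpecialLinearGroup.mem_center_iff] at h
  obtain ⟨r, hr, h⟩ := h
  refine ⟨r, by simpa [pow_two] using hr, fun i j => ?_⟩
  have h1 : B.1 = A.1 * (A⁻¹ * B).1 := by
    rw [← Matrix.SpecialLinearGroup.coe_mul, mul_inv_cancel_left]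
  rw [h1, ← h]
  simp [Matrix.mul_apply, Matrix.scalar_apply, Matrix.diagonal_apply, mul_comm]

theorem mk_eq_of_neg {A B : Matrix.SpecialLinearGroup (Fin 2) F} (h : B.1 = - A.1) :
    (QuotientGroup.mk A : Matrix.ProjectiveSpecialLinearGroup (Fin 2) F) = QuotientGroup.mk B := by
  rw [QuotientGroup.eq, Matrix.SpecialLinearGroup.mem_center_iff]
  refine ⟨-1, by simp, ?_⟩
  have h1 : (A⁻¹ * B).1 = - (A⁻¹ * A).1 := by
    rw [Matrix.SpecialLinearGroup.coe_mul, Matrix.SpecialLinearGroup.coe_mul, h, Matrix.mul_neg]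
  have h2 : ((A⁻¹ * B : Matrix.SpecialLinearGroup (Fin 2) F) : Matrix (Fin 2) (Fin 2) F) = (A⁻¹ * B).1 := rfl
  rw [h2, h1, inv_mul_cancel]
  ext i j
  fin_cases i <;> fin_cases j <;> simp

theorem order_wl :
    orderOf (QuotientGroup.mk (wl F) : Matrix.ProjectiveSpecialLinearGroup (Fin 2) F) = 2 := by
  apply orderOf_eq_two
  · rw [← QuotientGroup.mk_mul]
    symm
    have : (1 : Matrix.ProjectiveSpecialLinearGroup (Fin 2) F) =
      QuotientGroup.mk (1 : Matrix.SpecialLinearGroup (Fin 2) F) := rfl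
    rw [this]
    apply mk_eq_of_neg
    show (!![0, 1; -1, 0] : Matrix (Fin 2) (Fin 2) F) * !![0, 1; -1, 0] = -1
    ext i j
    fin_cases i <;> fin_cases j <;> simp [Matrix.mul_apply, Fin.sum_univ_two]
  · intro h
    obtain ⟨r, hr, h1⟩ := eq_neg_iff_mk (B := 1) h
    have := h1 0 0
    simp [wl] at this

theorem order_yl (h2 : (2 : F) ≠ 0) (a b : F) (h : a * a + b * b = -1) :
    orderOf (QuotientGroup.mk (yl a b h) : Matrix.ProjectiveSpecialLinearGroup (Fin 2) F) = 2 := by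
  apply orderOf_eq_two
  · rw [← QuotientGroup.mk_mul]
    symm
    have : (1 : Matrix.ProjectiveSpecialLinearGroup (Fin 2) F) =
      QuotientGroup.mk (1 : Matrix.SpecialLinearGroup (Fin 2) F) := rfl
    rw [this]
    apply mk_eq_of_neg
    show (!![a, b; b, -a] : Matrix (Fin 2) (Fin 2) F) * !![a, b; b, -a] = -1
    ext i j
    fin_cases i <;> fin_cases j <;> simp [Matrix.mul_apply, Fin.sum_univ_two]
    · linear_combination h
    · ring
    · ring
    · linear_combination h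
  · intro h1
    obtain ⟨r, hr, h3⟩ := eq_neg_iff_mk (B := 1) h1
    have e1 := h3 0 0
    have e2 := h3 1 1
    simp [yl] at e1 e2
    apply h2
    linear_combination e1 + e2

theorem comm_wl_yl (a b : F) (h : a * a + b * b = -1) :
    (QuotientGroup.mk (yl a b h) * QuotientGroup.mk (wl F) : Matrix.ProjectiveSpecialLinearGroup (Fin 2) F) =
      QuotientGroup.mk (wl F) * QuotientGroup.mk (yl a b h) := by
  rw [← QuotientGroup.mk_mul, ← QuotientGroup.mk_mul]
  apply mk_eq_of_neg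
  show (!![0, 1; -1, 0] : Matrix (Fin 2) (Fin 2) F) * !![a, b; b, -a] =
    - ((!![a, b; b, -a] : Matrix (Fin 2) (Fin 2) F) * !![0, 1; -1, 0])
  ext i j
  fin_cases i <;> fin_cases j <;> simp [Matrix.mul_apply, Fin.sum_univ_two]

theorem not_comm_yl (h2 : (2 : F) ≠ 0) {a b a' b' : F} (h : a * a + b * b = -1) (h' : a' * a' + b' * b' = -1)
    (hc : a * b' - b * a' ≠ 0) (hd : a * a' + b * b' ≠ 0) :
    (QuotientGroup.mk (yl a b h) * QuotientGroup.mk (yl a' b' h') :
      Matrix.ProjectiveSpecialLinearGroup (Fin 2) F) ≠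
      QuotientGroup.mk (yl a' b' h') * QuotientGroup.mk (yl a b h) := by
  rw [← QuotientGroup.mk_mul, ← QuotientGroup.mk_mul]
  intro h3
  obtain ⟨r, hr, h4⟩ := eq_neg_iff_mk h3
  have e1 : ((!![a', b'; b', -a'] : Matrix (Fin 2) (Fin 2) F) *
    (!![a, b; b, -a] : Matrix (Fin 2) (Fin 2) F)) 0 0 = r * ((!![a, b; b, -a] : Matrix (Fin 2) (Fin 2) F) *
    (!![a', b'; b', -a'] : Matrix (Fin 2) (Fin 2) F)) 0 0 := h4 0 0
  have e2 : ((!![a', b'; b', -a'] : Matrix (Fin 2) (Fin 2) F) *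
    (!![a, b; b, -a] : Matrix (Fin 2) (Fin 2) F)) 0 1 = r * ((!![a, b; b, -a] : Matrix (Fin 2) (Fin 2) F) *
    (!![a', b'; b', -a'] : Matrix (Fin 2) (Fin 2) F)) 0 1 := h4 0 1
  simp [Matrix.mul_apply, Fin.sum_univ_two] at e1 e2
  have h5 : (r - 1) * (a * a' + b * b') = 0 := by linear_combination -e1
  have h6 : (r + 1) * (a * b' - b * a') = 0 := by linear_combination -e2
  have h7 := (mul_eq_zero.1 h5).resolve_right hd
  have h8 := (mul_eq_zero.1 h6).resolve_right hc
  apply h2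
  linear_combination h8 - h7

theorem not_centComm [Fintype F] (hodd : Odd (Fintype.card F)) (h5 : 5 < Fintype.card F) :
    ¬ CentComm (Matrix.ProjectiveSpecialLinearGroup (Fin 2) F) := by
  intro hcc
  have h2 : (2 : F) ≠ 0 := by
    have h3 : ringChar F ≠ 2 := by
      intro h3
      have := FiniteField.even_card_iff_char_two.1 h3
      rw [Nat.odd_iff] at hodd
      omega
    exact Ring.two_ne_zero h3
  obtain ⟨a, b, h⟩ : ∃ a b : F, a * a + b * b = -1 := by
    obtain ⟨p, hp⟩ := CharP.exists F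
    have hp' : p.Prime := (CharP.char_is_prime_or_zero F p).resolve_right (by
      rintro rfl
      exact (CharP.char_ne_zero_of_finite F 0) rfl)
    have : NeZero p := ⟨hp'.ne_zero⟩
    obtain ⟨a, b, hab⟩ := CharP.sq_add_sq F p (-1)
    refine ⟨a, b, ?_⟩
    have : ((-1 : ℤ) : F) = -1 := by push_cast; rfl
    rw [this] at hab
    linear_combination hab
  -- a rotation with nonzero entries
  obtain ⟨g, hg⟩ := IsCyclic.exists_generator (α := Fˣ)
  have hg4 : g ^ 4 ≠ 1 := by
    intro h4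
    have h6 := orderOf_dvd_of_pow_eq_one h4
    rw [orderOf_eq_card_of_forall_mem_zpowers hg, Nat.card_units, Nat.card_eq_fintype_card] at h6
    have := Nat.le_of_dvd (by norm_num) h6
    omega
  set m : F := (g : F) with hm
  have hm0 : m ≠ 0 := g.ne_zero
  have hm4 : m ^ 4 ≠ 1 := by
    intro h4
    apply hg4
    apply Units.ext
    rw [Units.val_pow_eq_pow_val, Units.val_one]
    exact h4
  have hm1 : 1 - m ^ 2 ≠ 0 := by
    intro h4
    apply hm4
    linear_combination (-1 - m ^ 2) * h4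
  have hm2 : 1 + m ^ 2 ≠ 0 := by
    intro h4
    apply hm4
    linear_combination (-1 + m ^ 2) * h4
  set c : F := (1 - m ^ 2) / (1 + m ^ 2) with hc
  set s : F := 2 * m / (1 + m ^ 2) with hs
  have hcs : c ^ 2 + s ^ 2 = 1 := by
    rw [hc, hs]
    field_simp
    ring
  have hc0 : c ≠ 0 := div_ne_zero hm1 hm2
  have hs0 : s ≠ 0 := div_ne_zero (mul_ne_zero h2 hm0) hm2
  have h' : (c * a - s * b) * (c * a - s * b) + (s * a + c * b) * (s * a + c * b) = -1 := by
    linear_combination (a * a + b * b) * hcs + h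
  apply not_comm_yl h2 h h'
  · have : a * (s * a + c * b) - b * (c * a - s * b) = -s := by linear_combination s * h
    rw [this]
    exact neg_ne_zero.2 hs0
  · have : a * (c * a - s * b) + b * (s * a + c * b) = -c := by linear_combination c * h
    rw [this]
    exact neg_ne_zero.2 hc0
  · exact hcc _ _ _ order_wl (order_yl h2 _ _ _) (order_yl h2 _ _ _) (comm_wl_yl _ _ _)
      (comm_wl_yl _ _ _)

/-- **no binary action of `PSL₂(q)`, `q > 5` odd, has point stabilisers of even order** -/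
theorem psl_even_false [Fintype F] (hodd : Odd (Fintype.card F)) (h5 : 5 < Fintype.card F)
    {H : Subgroup (Matrix.ProjectiveSpecialLinearGroup (Fin 2) F)} (hH : H ≠ ⊤)
    (heven : Even (Nat.card H)) (hb : Binary H) : False := by
  have hsimp : IsSimpleGroup (Matrix.ProjectiveSpecialLinearGroup (Fin 2) F) :=
    Cfsg.Agent.TwoFusion.SLTwoFacts.isSimpleGroup_psl (by omega)
  have hone := Cfsg.Agent.ClassicalGeometry.SLTwoFour.psl_isConj (F := F) hodd
  have : Fact (Nat.Prime 2) := ⟨Nat.prime_two⟩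
  obtain ⟨t, ht⟩ := exists_prime_orderOf_dvd_card' (G := H) 2 heven.two_dvd
  have hinv : ∃ s : Matrix.ProjectiveSpecialLinearGroup (Fin 2) F, orderOf s = 2 :=
    ⟨t, by rw [Subgroup.orderOf_coe, ht]⟩
  apply not_centComm hodd h5
  rcases (Cfsg.Agent.S5735.result hinv hone H hH heven).1 hb with
    ⟨⟨K, i1, i2, a, ha, hK, e⟩, -⟩ | ⟨⟨K, i1, i2, m, hm, hK, e⟩, -⟩ | ⟨⟨K, i1, i2, n, hn, hK, e⟩, -⟩
  · exact centComm_sl hK e
  · exact centComm_sz hK e
  · exact centComm_psu (by omega) (by rw [Nat.card_eq_fintype_card, hK]) e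

end Odd

end Cfsg.Agent.H896
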