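import Cfsg.Agent.H896.PSLCases
import Cfsg.Agent.H896.PSLEven
import Cfsg.Agent.S0799
import Cfsg.Agent.ClassicalGeometry.PSL2Solvable
import Cfsg.Agent.ClassicalGeometry.PSL2Basic

/-!
# Binary actions of `PSL₂(q)` with point stabilisers of odd order (helper896)
-/

set_option autoImplicit false
set_option linter.unusedSectionVars false

namespace Cfsg.Agent.H896

/-- in a nontrivial solvable group some nontrivial element commutes with all its conjugates -/
theorem exists_comm_conj {G : Type*} [Group G] [Nontrivial G] (hG : Group.IsSolvable G) :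
    ∃ c : G, c ≠ 1 ∧ ∀ x : G, c * (x * c * x⁻¹) = (x * c * x⁻¹) * c := by
  classical
  have h1 := hG.solvable
  have h0 : Nat.find h1 ≠ 0 := by
    intro h
    have h2 := Nat.find_spec h1
    rw [h, derivedSeries_zero] at h2
    exact top_ne_bot h2
  obtain ⟨m, hm⟩ := Nat.exists_eq_succ_of_ne_zero h0
  have h2 := Nat.find_spec h1
  rw [hm, Nat.succ_eq_add_one, derivedSeries_succ] at h2
  have h3 : derivedSeries G m ≠ ⊥ := Nat.find_min h1 (by omega)
  obtain ⟨⟨c, hc⟩, hx⟩ := Subgroup.ne_bot_iff_exists_ne_one.1 h3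
  have hc1 : c ≠ 1 := fun h => hx (Subtype.ext h)
  refine ⟨c, hc1, fun x => ?_⟩
  have h4 : x * c * x⁻¹ ∈ derivedSeries G m :=
    (inferInstance : (derivedSeries G m).Normal).conj_mem c hc x
  have h5 := (Subgroup.commutator_eq_bot_iff_le_centralizer.1 h2) hc
  exact (Subgroup.mem_centralizer_iff.1 h5 _ h4).symm

namespace PL

open Matrix

theorem card_psl_even {L : Type*} [Field L] [Finite L] :
    Even (Nat.card (Matrix.ProjectiveSpecialLinearGroup (Fin 2) L)) := by
  have h1 := order_wl (F := L)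
  have h2 := orderOf_dvd_natCard
    (QuotientGroup.mk (wl L) : Matrix.ProjectiveSpecialLinearGroup (Fin 2) L)
  rw [h1] at h2
  exact even_iff_two_dvd.2 h2

theorem card_pgl_even {L : Type*} [Field L] [Fintype L] :
    Even (Nat.card (Matrix.ProjGenLinGroup (Fin 2) L)) := by
  rw [Cfsg.Agent.ClassicalGeometry.PSL2Basic.card_PGL2]
  rcases Nat.even_or_odd (Fintype.card L) with h | h
  · exact h.mul_right _
  · apply Even.mul_left
    exact Nat.Odd.sub_odd (h.pow) odd_one

theorem solvable_of_odd {F : Type*} [Field F] [Fintype F]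
    (H : Subgroup (Matrix.ProjectiveSpecialLinearGroup (Fin 2) F)) (hodd : Odd (Nat.card H)) :
    Group.IsSolvable H := by
  obtain ⟨p, hp⟩ := CharP.exists F
  have hp' : p.Prime := (CharP.char_is_prime_or_zero F p).resolve_right (by
    rintro rfl
    exact (CharP.char_ne_zero_of_finite F 0) rfl)
  have : Fact p.Prime := ⟨hp'⟩
  have key : ∀ {L : Type} [Group L], Nonempty (H ≃* L) → Even (Nat.card L) → Group.IsSolvable H := by
    rintro L _ ⟨e⟩ h
    rw [← Nat.card_congr e.toEquiv] at h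
    exact absurd h (Nat.not_even_iff_odd.2 hodd)
  rcases Cfsg.Agent.S0799.result rfl p H with ⟨k, -, ⟨hc, -⟩ | ⟨⟨e⟩⟩⟩ | ⟨P, K, hK, ⟨e⟩⟩ | h | h | h |
    ⟨L, i1, i2, m, -, h | h⟩
  · have := hc
    exact Group.isSolvable_of_comm (fun a b => by
      have := IsCyclic.commGroup (α := H)
      exact Std.Commutative.comm a b)
  · exfalso
    have := Nat.card_congr e.toEquiv
    rw [DihedralGroup.nat_card] at this
    rw [this] at hodd
    exact (Nat.not_even_iff_odd.2 hodd) (even_two_mul k)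
  · have h1 := Cfsg.Agent.ClassicalGeometry.PSL2Solvable.isSolvable_of_le_normalizer p P K hK
    exact Group.isSolvable_of_isSolvable_injective (f := e.toMonoidHom) e.injective
  · refine key h ?_
    rw [nat_card_alternatingGroup, Nat.card_eq_fintype_card, Fintype.card_fin]
    decide
  · refine key h ?_
    rw [Nat.card_perm, Nat.card_eq_fintype_card, Fintype.card_fin]
    decide
  · refine key h ?_
    rw [nat_card_alternatingGroup, Nat.card_eq_fintype_card, Fintype.card_fin]
    decide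
  · exact key h card_psl_even
  · exact key h card_pgl_even

/-! ### the unipotent case -/

section Four

variable {F : Type*} [Field F]

/-- `tr X² = 4`, with `X` upper triangular -/
theorem false_four_upper (h0 : (2 : F) ≠ 0) {K : Subgroup (Matrix.SpecialLinearGroup (Fin 2) F)}
    (hb : Binary K) (hcen : Subgroup.center (Matrix.SpecialLinearGroup (Fin 2) F) ≤ K)
    (hO : ∀ Y ∈ K, tr Y = 0 → Y ∈ Subgroup.center (Matrix.SpecialLinearGroup (Fin 2) F))
    {X : Matrix.SpecialLinearGroup (Fin 2) F} (hX : X ∈ K)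
    (hXc : X ∉ Subgroup.center (Matrix.SpecialLinearGroup (Fin 2) F)) (hX10 : X.1 1 0 = 0)
    (hX00 : X.1 0 0 = X.1 1 1)
    (hcZ : ∀ Y ∈ K, X * (Y * X * Y⁻¹) = (Y * X * Y⁻¹) * X) : False := by
  have hX01 : X.1 0 1 ≠ 0 := fun h => hXc (mem_center.2 ⟨h, hX10, hX00⟩)
  have hB : ∀ Y ∈ K, Y.1 1 0 = 0 := by
    intro Y hY
    have h1 := (comm_iff.1 (hcZ Y hY)).1
    rw [hX10, zero_mul] at h1
    have h2 := (mul_eq_zero.1 h1).resolve_left hX01
    rw [m10 (Y * X), m10, m11, i00, i10, hX10, ← hX00] at h2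
    have h3 : X.1 0 1 * (Y.1 1 0 * Y.1 1 0) = 0 := by linear_combination -h2
    exact mul_self_eq_zero.1 ((mul_eq_zero.1 h3).resolve_left hX01)
  by_cases hU : ∀ Y ∈ K, Y.1 0 0 = Y.1 1 1
  · exact false_unip h0 hb hcen hB hU hX hXc
  · push Not at hU
    obtain ⟨k, hk, hkne⟩ := hU
    have hk10 := hB k hk
    have hne' : k.1 1 1 - k.1 0 0 ≠ 0 := fun h => hkne (sub_eq_zero.1 h).symm
    set t : F := k.1 0 1 / (k.1 1 1 - k.1 0 0) with ht
    have htt : t * (k.1 1 1 - k.1 0 0) = k.1 0 1 := by rw [ht]; field_simp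
    set s : Matrix.SpecialLinearGroup (Fin 2) F := mk2 1 t 0 1 (by ring) with hs
    have s00 : s.1 0 0 = 1 := by rw [hs, k00]
    have s01 : s.1 0 1 = t := by rw [hs, k01]
    have s10 : s.1 1 0 = 0 := by rw [hs, k10]
    have s11 : s.1 1 1 = 1 := by rw [hs, k11]
    have hmem : ∀ Y, Y ∈ cj s⁻¹ K ↔ s * Y * s⁻¹ ∈ K := by
      intro Y
      rw [mem_cj, inv_inv]
    have hinv : ∀ Y, Y ∈ K → s⁻¹ * Y * s ∈ cj s⁻¹ K := by
      intro Y hY
      rw [hmem]
      have : s * (s⁻¹ * Y * s) * s⁻¹ = Y := by group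
      rwa [this]
    have hB' : ∀ Y ∈ cj s⁻¹ K, Y.1 1 0 = 0 := by
      intro Y hY
      have h1 := hB _ ((hmem Y).1 hY)
      rw [m10 (s * Y), m10, m11, i00, i10, s10, s11] at h1
      linear_combination h1
    refine false_borel (K := cj s⁻¹ K) (binary_cj.2 hb) hB' ?_ (X := s⁻¹ * X * s) (k := s⁻¹ * k * s)
      (hinv X hX) ?_ ?_ (hinv k hk) ?_ ?_
    · intro Y hY h
      have h1 := hO _ ((hmem Y).1 hY) (by rw [tr_conj, h])
      have h2 := mem_center.1 h1
      have h3 := dt (s * Y * s⁻¹)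
      have h4 : tr (s * Y * s⁻¹) = 0 := by rw [tr_conj, h]
      unfold tr at h4
      rw [h2.1, h2.2.2] at h3
      rw [h2.2.2] at h4
      have h5 : (s * Y * s⁻¹).1 1 1 = 0 := by
        apply mul_left_cancel₀ h0
        linear_combination h4
      rw [h5] at h3
      simp at h3
    · rw [m00 (s⁻¹ * X), m11 (s⁻¹ * X), m00, m01, m10, m11, i00, i01, i10, i11, s00, s01, s10, s11,
        hX10, hX00]
      ring
    · rw [m01 (s⁻¹ * X), m00, m01, i00, i01, s01, s11, hX10, hX00]
      have : (1 * X.1 1 1 + -t * 0) * t + (1 * X.1 0 1 + -t * X.1 1 1) * 1 = X.1 0 1 := by ring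
      rw [this]
      exact hX01
    · rw [m01 (s⁻¹ * k), m00, m01, i00, i01, s01, s11, hk10]
      linear_combination -htt
    · rw [m00 (s⁻¹ * k), m11 (s⁻¹ * k), m00, m01, m10, m11, i00, i01, i10, i11, s00, s01, s10, s11,
        hk10]
      intro h
      apply hkne
      linear_combination h

/-- `tr X² = 4` -/
theorem false_four (h0 : (2 : F) ≠ 0) {K : Subgroup (Matrix.SpecialLinearGroup (Fin 2) F)}
    (hb : Binary K) (hcen : Subgroup.center (Matrix.SpecialLinearGroup (Fin 2) F) ≤ K)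
    (hO : ∀ Y ∈ K, tr Y = 0 → Y ∈ Subgroup.center (Matrix.SpecialLinearGroup (Fin 2) F))
    {X : Matrix.SpecialLinearGroup (Fin 2) F} (hX : X ∈ K)
    (hXc : X ∉ Subgroup.center (Matrix.SpecialLinearGroup (Fin 2) F)) (h4 : tr X * tr X = 4)
    (hcZ : ∀ Y ∈ K, X * (Y * X * Y⁻¹) = (Y * X * Y⁻¹) * X) : False := by
  have hdX := dt X
  unfold tr at h4
  by_cases hX10 : X.1 1 0 = 0
  · refine false_four_upper h0 hb hcen hO hX hXc hX10 ?_ hcZ
    rw [hX10] at hdX
    have : (X.1 0 0 - X.1 1 1) * (X.1 0 0 - X.1 1 1) = 0 := by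
      linear_combination h4 - 4 * hdX
    exact sub_eq_zero.1 (mul_self_eq_zero.1 this)
  · set x : F := (X.1 0 0 - X.1 1 1) / (2 * X.1 1 0) with hx
    have hxx : 2 * X.1 1 0 * x = X.1 0 0 - X.1 1 1 := by rw [hx]; field_simp
    set s : Matrix.SpecialLinearGroup (Fin 2) F := mk2 x (-1) 1 0 (by ring) with hs
    have s00 : s.1 0 0 = x := by rw [hs, k00]
    have s01 : s.1 0 1 = -1 := by rw [hs, k01]
    have s10 : s.1 1 0 = 1 := by rw [hs, k10]
    have s11 : s.1 1 1 = 0 := by rw [hs, k11]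
    have hmem : ∀ Y, Y ∈ cj s⁻¹ K ↔ s * Y * s⁻¹ ∈ K := by
      intro Y
      rw [mem_cj, inv_inv]
    have hcs : ∀ Y, s * Y * s⁻¹ ∈ Subgroup.center (Matrix.SpecialLinearGroup (Fin 2) F) →
        Y ∈ Subgroup.center (Matrix.SpecialLinearGroup (Fin 2) F) := by
      intro Y h
      have h1 := (inferInstance : (Subgroup.center (Matrix.SpecialLinearGroup (Fin 2) F)).Normal).conj_mem
        _ h s⁻¹
      have h2 : s⁻¹ * (s * Y * s⁻¹) * s⁻¹⁻¹ = Y := by group
      rwa [h2] at h1
    have h40 : (4 : F) ≠ 0 := by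
      have : (4 : F) = 2 * 2 := by norm_num
      rw [this]
      exact mul_ne_zero h0 h0
    have hX'10 : (s⁻¹ * X * s).1 1 0 = 0 := by
      rw [m10 (s⁻¹ * X), m10, m11, i10, i11, s00, s10]
      apply mul_left_cancel₀ (mul_ne_zero h40 hX10)
      linear_combination -h4 + 4 * hdX + (2 * X.1 1 0 * x - (X.1 0 0 - X.1 1 1)) * hxx
    refine false_four_upper (K := cj s⁻¹ K) h0 (binary_cj.2 hb) ?_ ?_ (X := s⁻¹ * X * s) ?_ ?_ hX'10
      ?_ ?_
    · intro Y hY
      rw [hmem]
      exact hcen ((inferInstance :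
        (Subgroup.center (Matrix.SpecialLinearGroup (Fin 2) F)).Normal).conj_mem _ hY s)
    · intro Y hY h
      apply hcs
      exact hO _ ((hmem Y).1 hY) (by rw [tr_conj, h])
    · rw [hmem]
      have : s * (s⁻¹ * X * s) * s⁻¹ = X := by group
      rwa [this]
    · intro h
      apply hXc
      have h1 := (inferInstance : (Subgroup.center (Matrix.SpecialLinearGroup (Fin 2) F)).Normal).conj_mem
        _ h s
      have h2 : s * (s⁻¹ * X * s) * s⁻¹ = X := by group
      rwa [h2] at h1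
    · have h5 := dt (s⁻¹ * X * s)
      have h6 : tr (s⁻¹ * X * s) = tr X := by
        have := tr_conj X s⁻¹
        rwa [inv_inv] at this
      unfold tr at h6
      rw [hX'10] at h5
      rw [← h6] at h4
      have : ((s⁻¹ * X * s).1 0 0 - (s⁻¹ * X * s).1 1 1) * ((s⁻¹ * X * s).1 0 0 - (s⁻¹ * X * s).1 1 1) = 0 := by
        linear_combination h4 - 4 * h5
      exact sub_eq_zero.1 (mul_self_eq_zero.1 this)
    · intro Y hY
      have h1 := hcZ _ ((hmem Y).1 hY)
      have e1 : s⁻¹ * X * s * (Y * (s⁻¹ * X * s) * Y⁻¹) =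
          s⁻¹ * (X * (s * Y * s⁻¹ * X * (s * Y * s⁻¹)⁻¹)) * s := by group
      have e2 : Y * (s⁻¹ * X * s) * Y⁻¹ * (s⁻¹ * X * s) =
          s⁻¹ * ((s * Y * s⁻¹ * X * (s * Y * s⁻¹)⁻¹) * X) * s := by group
      rw [e1, e2, h1]

end Four

/-! ### the main theorem for odd order -/

section Main

variable {F : Type*} [Field F] [Fintype F]

theorem exists_omega {a : ℕ} (hF : Fintype.card F = 2 ^ a) (ha : Even a) :
    ∃ ω : F, ω * ω + ω + 1 = 0 := by
  obtain ⟨b, rfl⟩ := ha
  have : Fact (Nat.Prime 3) := ⟨Nat.prime_three⟩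
  have h3 : 3 ∣ Nat.card Fˣ := by
    rw [Nat.card_units, Nat.card_eq_fintype_card, hF, ← mul_two, mul_comm, pow_mul]
    have h1 : (4 : ℕ) - 1 ∣ 4 ^ b - 1 := by simpa using Nat.sub_dvd_pow_sub_pow 4 1 b
    simpa using h1
  obtain ⟨x, hx⟩ := exists_prime_orderOf_dvd_card' (G := Fˣ) 3 h3
  have h1 : x ^ 3 = 1 := by rw [← hx, pow_orderOf_eq_one]
  have h2 : x ≠ 1 := by
    rintro rfl
    rw [orderOf_one] at hx
    omega
  have h4 : (x : F) ^ 3 = 1 := by rw [← Units.val_pow_eq_pow_val, h1, Units.val_one]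
  have h5 : (x : F) ≠ 1 := fun h => h2 (Units.ext h)
  refine ⟨x, ?_⟩
  apply mul_left_cancel₀ (sub_ne_zero.2 h5)
  linear_combination h4

theorem no_omega {a : ℕ} (hF : Fintype.card F = 2 ^ a) (ha : Odd a) (ω : F) :
    ω * ω + ω + 1 ≠ 0 := by
  intro h
  have := charP_two_of_card_pow hF
  have h2 := CharTwo.two_eq_zero (R := F)
  have h3 : ω ^ 3 = 1 := by linear_combination (ω - 1) * h
  have hω0 : ω ≠ 0 := by
    rintro rfl
    simp at h
  have h1 : ω ≠ 1 := by
    rintro rfl
    have : (1 : F) = 0 := by linear_combination h - h2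
    exact one_ne_zero this
  set x : Fˣ := Units.mk0 ω hω0 with hx
  have hx3 : x ^ 3 = 1 := Units.ext (by rw [Units.val_pow_eq_pow_val, hx, Units.val_mk0, h3, Units.val_one])
  have hx1 : x ≠ 1 := by
    intro h
    apply h1
    have := congrArg Units.val h
    simpa [hx] using this
  have : Fact (Nat.Prime 3) := ⟨Nat.prime_three⟩
  have ho : orderOf x = 3 := orderOf_eq_prime hx3 hx1
  have hd := orderOf_dvd_natCard x
  rw [ho, Nat.card_units, Nat.card_eq_fintype_card, hF] at hd
  obtain ⟨b, rfl⟩ := ha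
  rw [pow_succ, pow_mul] at hd
  have h5 : (4 : ℕ) ^ b % 3 = 1 := by
    rw [Nat.pow_mod]
    simp
  have h6 : (2 ^ 2 : ℕ) = 4 := by norm_num
  rw [h6] at hd
  have h7 : 0 < 4 ^ b := by positivity
  omega

theorem odd_main {H : Subgroup (Matrix.ProjectiveSpecialLinearGroup (Fin 2) F)}
    (hodd : Odd (Nat.card H)) (hne : H ≠ ⊥) (hb : Binary H) :
    (∃ a : ℕ, Odd a ∧ Fintype.card F = 2 ^ a) ∧ Nat.card H = 3 := by
  set π := QuotientGroup.mk' (Subgroup.center (Matrix.SpecialLinearGroup (Fin 2) F)) with hπ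
  have hπs : Function.Surjective π := QuotientGroup.mk'_surjective _
  set K := H.comap π with hK
  have hmemK : ∀ Y, Y ∈ K ↔ π Y ∈ H := fun Y => Iff.rfl
  have hbK : Binary K := (binary_comap π hπs H).2 hb
  have hker : ∀ Y, π Y = 1 ↔ Y ∈ Subgroup.center (Matrix.SpecialLinearGroup (Fin 2) F) :=
    fun Y => QuotientGroup.eq_one_iff Y
  have hcen : Subgroup.center (Matrix.SpecialLinearGroup (Fin 2) F) ≤ K := fun Y hY => by
    rw [hmemK, (hker Y).2 hY]
    exact H.one_mem
  have hH2 : ∀ x ∈ H, x * x = 1 → x = 1 := by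
    intro x hx hxx
    have h1 : orderOf x ∣ 2 := orderOf_dvd_of_pow_eq_one (by rw [pow_two, hxx])
    have h2 : orderOf x ∣ Nat.card H := Subgroup.orderOf_dvd_natCard H hx
    have h3 : Nat.Coprime 2 (Nat.card H) := (Nat.coprime_two_left).2 hodd
    have h4 : orderOf x ∣ 1 := by
      rw [← h3.gcd_eq_one]
      exact Nat.dvd_gcd h1 h2
    exact orderOf_eq_one_iff.1 (Nat.dvd_one.1 h4)
  have hO : ∀ Y ∈ K, tr Y = 0 → Y ∈ Subgroup.center (Matrix.SpecialLinearGroup (Fin 2) F) := by
    intro Y hY h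
    rw [← hker]
    apply hH2 _ hY
    rw [← map_mul, hker, mem_center, m01, m10, m00, m11]
    unfold tr at h
    refine ⟨by linear_combination Y.1 0 1 * h, by linear_combination Y.1 1 0 * h,
      by linear_combination (Y.1 0 0 - Y.1 1 1) * h⟩
  -- a suitable element
  have hnt : Nontrivial H := (Subgroup.nontrivial_iff_ne_bot H).2 hne
  obtain ⟨⟨c, hcH⟩, hc1, hcc⟩ := exists_comm_conj (solvable_of_odd H hodd)
  have hc1' : c ≠ 1 := fun h => hc1 (Subtype.ext h)
  have hcc' : ∀ x ∈ H, c * (x * c * x⁻¹) = (x * c * x⁻¹) * c := fun x hx =>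
    congrArg Subtype.val (hcc ⟨x, hx⟩)
  obtain ⟨X, hXc'⟩ := hπs c
  have hX : X ∈ K := by rw [hmemK, hXc']; exact hcH
  have hXc : X ∉ Subgroup.center (Matrix.SpecialLinearGroup (Fin 2) F) := by
    rw [← hker, hXc']
    exact hc1'
  have hXt : tr X ≠ 0 := fun h => hXc (hO X hX h)
  have hcZ : ∀ Y ∈ K, X * (Y * X * Y⁻¹) = (Y * X * Y⁻¹) * X := by
    intro Y hY
    have h1 := hcc' (π Y) hY
    rw [← hXc', ← map_mul, ← map_inv, ← map_mul, ← map_mul, ← map_mul] at h1
    obtain ⟨r, hr, h2⟩ := eq_neg_iff_mk h1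
    by_cases hr1 : r = 1
    · apply Subtype.ext
      ext i j
      have := h2 i j
      rw [hr1, one_mul] at this
      exact this.symm
    · exfalso
      have hr' : r = -1 := by
        have : (r - 1) * (r + 1) = 0 := by linear_combination hr
        have h3 := (mul_eq_zero.1 this).resolve_left (sub_ne_zero.2 hr1)
        linear_combination h3
      have h20 : (2 : F) ≠ 0 := by
        intro h
        apply hr1
        rw [hr']
        linear_combination -h
      set Z := Y * X * Y⁻¹ with hZ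
      have h3 := dt X
      have e00 := h2 0 0
      have e01 := h2 0 1
      have e10 := h2 1 0
      have e11 := h2 1 1
      have htZ : tr Z = tr X := tr_conj X Y
      clear_value Z
      rw [hr', m00 Z X, m00 X Z] at e00
      rw [hr', m01 Z X, m01 X Z] at e01
      rw [hr', m10 Z X, m10 X Z] at e10
      rw [hr', m11 Z X, m11 X Z] at e11
      have h4 : 2 * tr X = 0 := by
        rw [← htZ]
        unfold tr
        linear_combination X.1 1 1 * e00 - X.1 0 1 * e10 - X.1 1 0 * e01 + X.1 0 0 * e11 -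
          2 * (Z.1 0 0 + Z.1 1 1) * h3
      exact hXt ((mul_eq_zero.1 h4).resolve_left h20)
  by_cases h4 : tr X * tr X = 4
  · exfalso
    by_cases h0 : (2 : F) = 0
    · apply hXt
      apply mul_self_eq_zero.1
      rw [h4]
      linear_combination 2 * h0
    · exact false_four h0 hbK hcen hO hX hXc h4 hcZ
  · -- the centralizer of `X`
    have hcomm : ∀ Y ∈ K, X * Y = Y * X := by
      intro Y hY
      rcases eq_or_inv hXc h4 (hcZ Y hY) (tr_conj X Y) with h5 | h5
      · exact (mul_inv_eq_iff_eq_mul.1 h5).symm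
      · have h6 := hO Y hY (tr_of_inv hXc h5)
        exact Subgroup.mem_center_iff.1 h6 X
    by_cases h0 : (2 : F) = 0
    · have : CharP F 2 := CharTwo.of_one_ne_zero_of_two_eq_zero one_ne_zero h0
      obtain ⟨n, -, hn⟩ := FiniteField.card F 2
      have hall : ∀ Y ∈ K, Y ∉ Subgroup.center (Matrix.SpecialLinearGroup (Fin 2) F) → tr Y = 1 := by
        intro Y hY hYc
        by_contra h5
        exact false_even hbK hcen hY hYc (fun Z hZ => comm_trans hXc (hcomm Y hY) (hcomm Z hZ))
          (fun h => hYc (hO Y hY h)) h5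
      have hX1 := hall X hX hXc
      have hω : ∀ ω : F, ω * ω + ω + 1 ≠ 0 := fun ω h =>
        false_three hbK hcen hX hXc hcomm hX1 h
      refine ⟨⟨n, ?_, hn⟩, ?_⟩
      · rw [← Nat.not_even_iff_odd]
        intro h
        obtain ⟨ω, h'⟩ := exists_omega hn h
        exact hω ω h'
      · have hmem : ∀ x ∈ H, x = 1 ∨ x = c ∨ x = c⁻¹ := by
          intro x hx
          obtain ⟨Y, rfl⟩ := hπs x
          by_cases hY : Y ∈ Subgroup.center (Matrix.SpecialLinearGroup (Fin 2) F)
          · exact Or.inl ((hker Y).2 hY)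
          · right
            rcases eq_or_inv hXc h4 (hcomm Y hx) (by rw [hall Y hx hY, hX1]) with h5 | h5
            · left; rw [h5, hXc']
            · right; rw [h5, map_inv, hXc']
        have hcc3 : c * c = c⁻¹ := by
          rcases hmem (c * c) (H.mul_mem hcH hcH) with h5 | h5 | h5
          · exact absurd (hH2 c hcH h5) hc1'
          · exact absurd (mul_eq_left.1 h5) hc1'
          · exact h5
        have ho : orderOf c = 3 := by
          have : Fact (Nat.Prime 3) := ⟨Nat.prime_three⟩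
          apply orderOf_eq_prime _ hc1'
          rw [pow_succ, pow_two, hcc3, inv_mul_cancel]
        have hHz : H = Subgroup.zpowers c := by
          apply le_antisymm
          · intro x hx
            rcases hmem x hx with rfl | rfl | rfl
            · exact Subgroup.one_mem _
            · exact Subgroup.mem_zpowers _
            · exact Subgroup.inv_mem _ (Subgroup.mem_zpowers _)
          · rw [Subgroup.zpowers_le]
            exact hcH
        rw [hHz, Nat.card_zpowers, ho]
    · exact absurd (false_odd h0 hbK hcen hX hXc hcomm h4) id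

end Main

end PL

end Cfsg.Agent.H896
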