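import Cfsg.Agent.H896.PSLOdd

/-!
# The binary action of `PSL₂(2^a)`, `a` odd, with point stabilisers of order three (helper896)
-/

set_option autoImplicit false
set_option linter.unusedSectionVars false

namespace Cfsg.Agent.H896

namespace PL

open Matrix

variable {F : Type*} [Field F] [CharP F 2]

theorem eq_of_tr (hω : ∀ ω : F, ω * ω + ω + 1 ≠ 0) {A B : Matrix.SpecialLinearGroup (Fin 2) F}
    (hA : tr A = 1) (hB : tr B = 1) (hAB : tr (A * B) = 1) : A = B := by
  have h2 := CharTwo.two_eq_zero (R := F)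
  have dA := dt A
  have dB := dt B
  unfold tr at hA hB hAB
  rw [m00, m11] at hAB
  have hA' : A.1 1 1 = 1 - A.1 0 0 := by linear_combination hA
  have hB' : B.1 1 1 = 1 - B.1 0 0 := by linear_combination hB
  rw [hA'] at dA
  rw [hB'] at dB
  rw [hA', hB'] at hAB
  have h1 : (A.1 0 0 + B.1 0 0) * (A.1 0 0 + B.1 0 0) +
      (A.1 0 1 + B.1 0 1) * (A.1 1 0 + B.1 1 0) = 0 := by
    linear_combination -dA - dB + hAB + (A.1 0 0 + B.1 0 0 - 1) * h2
  have h3 : (A.1 0 0 + B.1 0 0) + A.1 1 0 * (A.1 0 1 + B.1 0 1) + A.1 0 1 * (A.1 1 0 + B.1 1 0) = 0 := by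
    linear_combination hAB + (A.1 0 0 + B.1 0 0 + A.1 0 1 * A.1 1 0 - A.1 0 0 * B.1 0 0) * h2
  by_cases hn : A.1 0 1 + B.1 0 1 = 0
  · rw [hn, zero_mul, add_zero] at h1
    have h4 := mul_self_eq_zero.1 h1
    rw [hn, h4, mul_zero, add_zero, zero_add] at h3
    rcases mul_eq_zero.1 h3 with h5 | h5
    · exfalso
      apply hω (A.1 0 0)
      rw [h5, zero_mul, sub_zero] at dA
      linear_combination -dA + A.1 0 0 * h2
    · apply ext'
      · linear_combination h4 - B.1 0 0 * h2
      · linear_combination hn - B.1 0 1 * h2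
      · linear_combination h5 - B.1 1 0 * h2
      · rw [hA', hB']
        linear_combination -h4 + B.1 0 0 * h2
  · exfalso
    set n := A.1 0 1 + B.1 0 1 with hndef
    set m := (A.1 0 0 + B.1 0 0) / n with hm
    have hm' : A.1 0 0 + B.1 0 0 = m * n := by rw [hm]; field_simp
    rw [hm'] at h1 h3
    have h4 : A.1 1 0 + B.1 1 0 = - (m * m * n) := by
      apply mul_left_cancel₀ hn
      linear_combination h1
    have h5 : m + A.1 1 0 - A.1 0 1 * (m * m) = 0 := by
      apply mul_left_cancel₀ hn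
      rw [h4] at h3
      linear_combination h3
    apply hω (A.1 0 0 + A.1 0 1 * m)
    linear_combination -A.1 0 1 * h5 - dA + (A.1 0 0 + A.1 0 0 * A.1 0 1 * m + A.1 0 1 * m) * h2

theorem tr_eq_one {x : Matrix.SpecialLinearGroup (Fin 2) F} (hx : x ≠ 1) (h : x * x * x = 1) :
    tr x = 1 := by
  have h2 := CharTwo.two_eq_zero (R := F)
  have h1 : tr x * tr x = 1 := by
    apply of_cube
    · rw [center_sl_two, Subgroup.mem_bot]
      exact hx
    · rw [h]
      exact Subgroup.one_mem _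
  have h5 : (tr x + 1) ^ 2 = 0 := by linear_combination h1 + (tr x + 1) * h2
  exact CharTwo.add_eq_zero.1 (pow_eq_zero_iff two_ne_zero |>.1 h5)

theorem binary_three (hω : ∀ ω : F, ω * ω + ω + 1 ≠ 0)
    {K : Subgroup (Matrix.SpecialLinearGroup (Fin 2) F)} (hK : Nat.card K = 3) : Binary K := by
  have : Fact (Nat.Prime 3) := ⟨Nat.prime_three⟩
  have hcube : ∀ x ∈ K, x * x * x = 1 := by
    intro x hx
    have h1 : (⟨x, hx⟩ : K) ^ 3 = 1 := by
      rw [← hK]
      exact pow_card_eq_one'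
    have h2 := congrArg Subtype.val h1
    rw [pow_succ, pow_two] at h2
    exact h2
  have hcube' : ∀ a x, a⁻¹ * x * a ∈ K → x * x * x = 1 := by
    intro a x h
    have h1 := hcube _ h
    have h2 : a⁻¹ * x * a * (a⁻¹ * x * a) * (a⁻¹ * x * a) = a⁻¹ * (x * x * x) * a := by group
    rw [h2] at h1
    have h3 : x * x * x = a * (a⁻¹ * (x * x * x) * a) * a⁻¹ := by group
    rw [h3, h1]; group
  have hgen : ∀ x ∈ K, x ≠ 1 → ∀ y ∈ K, ∃ n : ℤ, y = x ^ n := by
    intro x hx hx1 y hy
    have h1 : (⟨y, hy⟩ : K) ∈ Subgroup.zpowers (⟨x, hx⟩ : K) :=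
      mem_zpowers_of_prime_card hK (fun h => hx1 (congrArg Subtype.val h))
    obtain ⟨n, hn⟩ := Subgroup.mem_zpowers_iff.1 h1
    refine ⟨n, ?_⟩
    have := congrArg Subtype.val hn
    simpa using this.symm
  apply binary_of_ti
  · intro g x hx hx1 hgx y hy
    obtain ⟨n, rfl⟩ := hgen x hx hx1 y hy
    have : g⁻¹ * x ^ n * g = (g⁻¹ * x * g) ^ n := by
      have := conj_zpow (i := n) (a := g⁻¹) (b := x)
      rw [inv_inv] at this
      exact this.symm
    rw [this]
    exact K.zpow_mem hgx n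
  · intro a b c p q r hp hq hr hp1 hq1 hr1 hqpr
    have h3p := hcube' a p hp
    have h3q := hcube' b q hq
    have h3r := hcube' c r hr
    have hpr : p = r := eq_of_tr hω (tr_eq_one hp1 h3p) (tr_eq_one hr1 h3r)
      (by rw [← hqpr]; exact tr_eq_one hq1 h3q)
    have hpq : p = q * q := by
      rw [hqpr, ← hpr]
      calc p = p * p * p * p := by rw [h3p, one_mul]
        _ = p * p * (p * p) := by group
    rw [hpq]
    have : b⁻¹ * (q * q) * b = (b⁻¹ * q * b) * (b⁻¹ * q * b) := by group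
    rw [this]
    exact K.mul_mem hq hq

end PL

end Cfsg.Agent.H896
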